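import Cfsg.Agent.Lib.JankoThompson.Small
import Cfsg.Agent.Lib.TransLinear.Huppert
import Cfsg.Agent.Lib.GW.Local
import Cfsg.Agent.Lib.QuadFixed.Key

/-!
# Centralisers `2 × PSL₂(2ⁿ)` with `n ≥ 3`

The normaliser of the elementary abelian Sylow 2-subgroup induces a transitive group of odd order
on its non-zero vectors, hence a semilinear one, and the stabiliser of `t` has order at least
`2ⁿ - 1 > n + 1`.
-/

set_option autoImplicit false
set_option linter.style.haveILetI false

namespace CfsgLib.JankoThompson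

open Cfsg Matrix

universe u v

/-- In a non-commutative simple group some element normalising an abelian Sylow subgroup moves a
given involution in it. -/
theorem exists_moved {G : Type u} [Group G] [Finite G] [IsSimpleGroup G]
    (hab : ∀ P : Sylow 2 G, ∀ a b : P, a * b = b * a) (P : Sylow 2 G) {t : G}
    (ht : orderOf t = 2) (htP : t ∈ P) (hna : ∃ a b : G, a * b ≠ b * a) :
    ∃ n ∈ Subgroup.normalizer ((P : Subgroup G) : Set G), n * t * n⁻¹ ≠ t := by
  classical
  haveI : Fact (Nat.Prime 2) := ⟨Nat.prime_two⟩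
  by_contra hiso
  push Not at hiso
  have ht1 : t ≠ 1 := fun h => by simp [h] at ht
  have htt : t * t = 1 := by rw [← sq, ← ht, pow_orderOf_eq_one]
  set C := Subgroup.centralizer ({t} : Set G) with hCdef
  have hisol : Cfsg.IsIsolatedInvolution t := by
    refine ⟨ht, fun g hg => ?_⟩
    set s := g * t * g⁻¹ with hs
    have hss : s * s = 1 := by
      calc s * s = g * (t * t) * g⁻¹ := by rw [hs]; group
        _ = 1 := by rw [htt]; group
    -- a Sylow subgroup through `t` and `s`
    have hcomm : ∀ a ∈ ({t, s} : Set G), ∀ b ∈ ({t, s} : Set G), a * b = b * a := by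
      rintro a (rfl | rfl) b (rfl | rfl)
      exacts [rfl, hg.eq, hg.symm.eq, rfl]
    have hp : IsPGroup 2 (Subgroup.closure ({t, s} : Set G)) := by
      intro x
      refine ⟨1, Subtype.ext ?_⟩
      show (x : G) ^ 2 ^ 1 = 1
      have h := Subgroup.closure_induction (p := fun y _ => y * y = 1 ∧ y ∈ Subgroup.closure ({t, s} : Set G))
        ?_ ⟨one_mul 1, one_mem _⟩ ?_ ?_ x.2
      · rw [pow_one, sq]; exact h.1
      · rintro y hy
        refine ⟨?_, Subgroup.subset_closure hy⟩
        rcases hy with rfl | rfl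
        exacts [htt, hss]
      · rintro a b - - ⟨ha, ha'⟩ ⟨hb, hb'⟩
        refine ⟨?_, mul_mem ha' hb'⟩
        haveI := Subgroup.isMulCommutative_closure hcomm
        have hab' : a * b = b * a :=
          congrArg Subtype.val (mul_comm' (⟨a, ha'⟩ : Subgroup.closure ({t, s} : Set G)) ⟨b, hb'⟩)
        calc a * b * (a * b) = a * (b * a) * b := by group
          _ = (a * a) * (b * b) := by rw [← hab']; group
          _ = 1 := by rw [ha, hb, one_mul]
      · rintro a - ⟨ha, ha'⟩
        exact ⟨by rw [← _root_.mul_inv_rev, ha, inv_one], inv_mem ha'⟩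
    obtain ⟨Q, hQ⟩ := hp.exists_le_sylow
    have htQ : t ∈ Q := hQ (Subgroup.subset_closure (Or.inl rfl))
    have hsQ : s ∈ Q := hQ (Subgroup.subset_closure (Or.inr rfl))
    have hle : ∀ R : Sylow 2 G, t ∈ R → (R : Subgroup G) ≤ C := fun R hR x hx =>
      Subgroup.mem_centralizer_singleton_iff.2 (congrArg Subtype.val (hab R ⟨x, hx⟩ ⟨t, hR⟩))
    obtain ⟨c, hc⟩ := MulAction.exists_smul_eq C (Q.subtype (hle Q htQ)) (P.subtype (hle P htP))
    have hcs : (c : G) * s * (c : G)⁻¹ ∈ P := by
      have h1 : c * (⟨s, hle Q htQ hsQ⟩ : C) * c⁻¹ ∈ (c • Q.subtype (hle Q htQ) : Sylow 2 C) :=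
        ⟨⟨s, hle Q htQ hsQ⟩, hsQ, rfl⟩
      rw [hc] at h1
      exact h1
    have hct : (c : G) * t = t * c := Subgroup.mem_centralizer_singleton_iff.1 c.2
    have hcen : ∀ y ∈ (P : Subgroup G), y ∈ Subgroup.centralizer ((P : Subgroup G) : Set G) :=
      fun y hy => Subgroup.mem_centralizer_iff.2 fun z hz =>
        congrArg Subtype.val (hab P ⟨z, hz⟩ ⟨y, hy⟩)
    obtain ⟨n, hn, hne⟩ := P.conj_eq_normalizer_conj_of_mem_centralizer t ((c : G) * g)⁻¹
      (hcen t htP) (hcen _ (by
        have : ((c : G) * g)⁻¹⁻¹ * t * ((c : G) * g)⁻¹ = (c : G) * s * (c : G)⁻¹ := by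
          rw [hs]; group
        rw [this]; exact hcs))
    have h2 : (c : G) * s * (c : G)⁻¹ = t := by
      have hn' := hiso n⁻¹ (inv_mem hn)
      rw [show (c : G) * s * (c : G)⁻¹ = ((c : G) * g)⁻¹⁻¹ * t * ((c : G) * g)⁻¹ by rw [hs]; group, hne]
      simpa using hn'
    calc s = (c : G)⁻¹ * ((c : G) * s * (c : G)⁻¹) * c := by group
      _ = (c : G)⁻¹ * (t * c) := by rw [h2, mul_assoc]
      _ = t := by rw [← hct]; group
  have hZ := CfsgLib.Involutions.zstar G t hisol
  have hcore : Cfsg.pPrimeCore 2 G = ⊥ := CfsgLib.CoreKill.oddCore_eq_bot_of_simple ht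
  have hcen : t ∈ Subgroup.center G := Subgroup.mem_center_iff.2 fun g => by
    have h1 := hZ g
    rw [hcore, Subgroup.mem_bot, mul_inv_eq_one, mul_inv_eq_iff_eq_mul] at h1
    exact h1
  rcases (Subgroup.center G).normal_of_characteristic.eq_bot_or_eq_top with h | h
  · rw [h, Subgroup.mem_bot] at hcen; exact ht1 hcen
  · obtain ⟨a, b, hne⟩ := hna
    exact hne (Subgroup.mem_center_iff.1 (h ▸ Subgroup.mem_top b) a)

/-- A finite field of order `2 ^ m` has at most `m` automorphisms. -/
theorem card_ringAut_le {K : Type} [Field K] [Fintype K] {m : ℕ} (hK : Fintype.card K = 2 ^ m) :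
    Nat.card (K ≃+* K) ≤ m := by
  classical
  haveI := CfsgLib.CITGraph.charP_two hK
  haveI : Fact (Nat.Prime 2) := ⟨Nat.prime_two⟩
  letI : Algebra (ZMod 2) K := ZMod.algebra K 2
  have hc : ∀ (σ : K ≃+* K) (x : ZMod 2), σ (algebraMap (ZMod 2) K x) = algebraMap (ZMod 2) K x :=
    fun σ x => RingHom.congr_fun
      (Subsingleton.elim (σ.toRingHom.comp (algebraMap (ZMod 2) K)) (algebraMap (ZMod 2) K)) x
  let f : (K ≃+* K) → (K ≃ₐ[ZMod 2] K) := fun σ => AlgEquiv.ofRingEquiv (f := σ) (hc σ)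
  have hf : Function.Injective f := fun a b h => RingEquiv.ext fun x => DFunLike.congr_fun h x
  refine (Nat.card_le_card_of_injective f hf).trans ?_
  rw [IsGalois.card_aut_eq_finrank]
  have h := Module.natCard_eq_pow_finrank (K := ZMod 2) (V := K)
  rw [Nat.card_eq_fintype_card, hK, Nat.card_zmod] at h
  exact (Nat.pow_right_injective le_rfl h).ge

section

variable {F : Type v} [Field F]

/-- The upper unitriangular element. -/
def uni (b : F) : SpecialLinearGroup (Fin 2) F :=
  ⟨!![1, b; 0, 1], by simp [det_fin_two]⟩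

/-- The diagonal element. -/
def dia (a : Fˣ) : SpecialLinearGroup (Fin 2) F :=
  ⟨!![(a : F), 0; 0, ((a⁻¹ : Fˣ) : F)], by simp [det_fin_two]⟩

theorem uni_add (a b : F) : uni (a + b) = uni a * uni b := by
  apply Subtype.ext
  show !![(1 : F), a + b; 0, 1] = !![(1 : F), a; 0, 1] * !![(1 : F), b; 0, 1]
  rw [mul_fin_two]
  ext i j; fin_cases i <;> fin_cases j <;> simp [add_comm]

theorem uni_zero : uni (0 : F) = 1 := Subtype.ext one_fin_two.symm

theorem dia_uni (a : Fˣ) (b : F) : dia a * uni b = uni ((a : F) ^ 2 * b) * dia a := by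
  apply Subtype.ext
  show !![(a : F), 0; 0, ((a⁻¹ : Fˣ) : F)] * !![1, b; 0, 1] =
    !![1, (a : F) ^ 2 * b; 0, 1] * !![(a : F), 0; 0, ((a⁻¹ : Fˣ) : F)]
  rw [mul_fin_two, mul_fin_two]
  ext i j; fin_cases i <;> fin_cases j <;> simp [pow_two] <;> field_simp

theorem uni_mem_center {b : F}
    (h : uni b ∈ Subgroup.center (SpecialLinearGroup (Fin 2) F)) : b = 0 := by
  have h1 := Subgroup.mem_center_iff.1 h (⟨!![1, 0; 1, 1], by simp [det_fin_two]⟩)
  have h2 := congrArg (fun m : SpecialLinearGroup (Fin 2) F => (m : Matrix (Fin 2) (Fin 2) F) 0 0) h1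
  change (!![(1 : F), 0; 1, 1] * !![1, b; 0, 1]) 0 0 = (!![1, b; 0, 1] * !![(1 : F), 0; 1, 1]) 0 0
    at h2
  simpa [mul_fin_two, eq_comm] using h2

end

theorem zmod2_cases : ∀ c : ZMod 2, c = 0 ∨ c = 1 := by decide

/-- The case `q = 2 ^ n ≥ 8` does not occur. -/
theorem even {G : Type u} [Group G] [Finite G] [IsSimpleGroup G]
    (hab : ∀ P : Sylow 2 G, ∀ a b : P, a * b = b * a)
    {F : Type v} [Field F] [Fintype F] {n : ℕ} (hn : 3 ≤ n) (hq : Fintype.card F = 2 ^ n)
    (t : G) (ht : orderOf t = 2)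
    (hC : Nonempty (Subgroup.centralizer ({t} : Set G) ≃*
      Multiplicative (ZMod 2) × Matrix.ProjectiveSpecialLinearGroup (Fin 2) F)) : False := by
  classical
  haveI : Fact (Nat.Prime 2) := ⟨Nat.prime_two⟩
  haveI := CfsgLib.CITGraph.charP_two hq
  obtain ⟨e⟩ := hC
  have h8 : 8 ≤ 2 ^ n := (Nat.pow_le_pow_right two_pos hn : 2 ^ 3 ≤ 2 ^ n)
  have hfrob : Function.Bijective fun x : F => x ^ 2 := Finite.injective_iff_bijective.1
    fun x y (h : x ^ 2 = y ^ 2) => by
      have : (x + y) ^ 2 = 0 := by rw [CharTwo.add_sq, h, CharTwo.add_self_eq_zero]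
      exact CharTwo.add_eq_zero.1 (pow_eq_zero_iff two_ne_zero |>.1 this)
  let pr : SpecialLinearGroup (Fin 2) F →* ProjectiveSpecialLinearGroup (Fin 2) F :=
    QuotientGroup.mk' _
  let un : Multiplicative F →* SpecialLinearGroup (Fin 2) F :=
    { toFun := fun b => uni b.toAdd
      map_one' := uni_zero
      map_mul' := fun a b => uni_add a.toAdd b.toAdd }
  let φ : Multiplicative (ZMod 2) × Multiplicative F →* G :=
    ((Subgroup.centralizer ({t} : Set G)).subtype.comp e.symm.toMonoidHom).comp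
      ((MonoidHom.id _).prodMap (pr.comp un))
  have hφ_apply : ∀ c b, φ (c, b) = ((e.symm (c, pr (uni b.toAdd)) : _) : G) := fun c b => rfl
  have hφ : Function.Injective φ := by
    rw [injective_iff_map_eq_one]
    rintro ⟨c, b⟩ h
    have h1 : ((c, pr (uni b.toAdd)) : _ × ProjectiveSpecialLinearGroup (Fin 2) F) = 1 := by
      apply e.symm.injective
      rw [map_one]
      exact Subtype.ext h
    obtain ⟨hc, hb⟩ := Prod.ext_iff.1 h1
    have hb' : uni b.toAdd ∈ Subgroup.center (SpecialLinearGroup (Fin 2) F) :=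
      (QuotientGroup.eq_one_iff _).1 hb
    exact Prod.ext hc (toAdd_eq_zero.1 (uni_mem_center hb'))
  set R := φ.range with hR
  have hcardR : Nat.card R = 2 ^ (n + 1) := by
    rw [← Nat.card_congr (MonoidHom.ofInjective hφ).toEquiv, Nat.card_prod,
      Nat.card_congr Multiplicative.toAdd, Nat.card_congr (Multiplicative.toAdd (α := F)),
      Nat.card_zmod, Nat.card_eq_fintype_card, hq, pow_succ']
  have hcardC : Nat.card (Subgroup.centralizer ({t} : Set G)) =
      2 ^ (n + 1) * (2 ^ (2 * n) - 1) := by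
    rw [Nat.card_congr e.toEquiv, Nat.card_prod, Nat.card_congr Multiplicative.toAdd, Nat.card_zmod,
      CfsgLib.CITGraph.card_psl_two (by omega) hq, pow_succ']
    ring
  -- `t` is the central element
  set ct : Subgroup.centralizer ({t} : Set G) :=
    ⟨t, Subgroup.mem_centralizer_singleton_iff.2 rfl⟩ with hct
  have hcen : ∀ y, y * e ct = e ct * y := fun y => by
    obtain ⟨y', rfl⟩ := e.surjective y
    rw [← map_mul, ← map_mul]
    exact congrArg e (Subtype.ext (Subgroup.mem_centralizer_singleton_iff.1 y'.2))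
  have h2 : (e ct).2 = 1 := by
    have hmem : (e ct).2 ∈ Subgroup.center (ProjectiveSpecialLinearGroup (Fin 2) F) :=
      Subgroup.mem_center_iff.2 fun w => congrArg Prod.snd (hcen (1, w))
    rwa [CfsgLib.QuadFixed.center_psl F (by omega), Subgroup.mem_bot] at hmem
  have htφ : φ ((e ct).1, 1) = t := by
    rw [hφ_apply, toAdd_one, uni_zero, map_one, ← h2, Prod.mk.eta, e.symm_apply_apply]
  have htR : t ∈ R := ⟨_, htφ⟩
  obtain ⟨P, hRP⟩ := (IsPGroup.of_card hcardR).exists_le_sylow (p := 2)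
  have hPab : ∀ a b : G, a ∈ P → b ∈ P → a * b = b * a := fun a b ha hb =>
    congrArg Subtype.val (hab P ⟨a, ha⟩ ⟨b, hb⟩)
  have hPC : (P : Subgroup G) ≤ Subgroup.centralizer ({t} : Set G) := fun x hx =>
    Subgroup.mem_centralizer_singleton_iff.2 (hPab x t hx (hRP htR))
  have hPR : (P : Subgroup G) = R := by
    refine (Subgroup.eq_of_le_of_card_ge hRP ?_).symm
    obtain ⟨k, hk⟩ := IsPGroup.iff_card.1 P.isPGroup'
    have hd : 2 ^ k ∣ 2 ^ (n + 1) * (2 ^ (2 * n) - 1) := by
      rw [← hk, ← hcardC]; exact Subgroup.card_dvd_of_le hPC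
    have hodd : Odd (2 ^ (2 * n) - 1) :=
      Nat.Even.sub_odd Nat.one_le_two_pow ((Nat.even_pow' (by omega)).2 even_two) odd_one
    have := (Nat.Coprime.pow_left k (Nat.coprime_two_left.2 hodd)).dvd_of_dvd_mul_right hd
    rw [hk, hcardR]
    exact Nat.le_of_dvd (by positivity) this
  have hR2 : ∀ x ∈ (P : Subgroup G), x * x = 1 := by
    intro x hx
    rw [hPR] at hx
    obtain ⟨⟨c, b⟩, rfl⟩ := hx
    rw [← map_mul]
    have : ((c, b) : Multiplicative (ZMod 2) × Multiplicative F) * (c, b) = 1 :=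
      Prod.ext (Multiplicative.toAdd.injective (CharTwo.add_self_eq_zero c.toAdd))
        (Multiplicative.toAdd.injective (CharTwo.add_self_eq_zero b.toAdd))
    rw [this, map_one]
  set N : Subgroup G := Subgroup.normalizer ((P : Subgroup G) : Set G) with hN
  let d : Fˣ → G := fun a => ((e.symm (1, pr (dia a)) : _) : G)
  have hd : ∀ (a : Fˣ) (c : Multiplicative (ZMod 2)) (b : F),
      d a * φ (c, Multiplicative.ofAdd b) * (d a)⁻¹ =
        φ (c, Multiplicative.ofAdd ((a : F) ^ 2 * b)) := by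
    intro a c b
    rw [mul_inv_eq_iff_eq_mul, hφ_apply, hφ_apply, toAdd_ofAdd, toAdd_ofAdd]
    show ((e.symm (1, pr (dia a)) * e.symm (c, pr (uni b)) : _) : G) =
      ((e.symm (c, pr (uni ((a : F) ^ 2 * b))) * e.symm (1, pr (dia a)) : _) : G)
    rw [← map_mul, ← map_mul, Prod.mk_mul_mk, Prod.mk_mul_mk, one_mul, mul_one, ← map_mul,
      dia_uni, map_mul]
  have hdt : ∀ a, d a * t * (d a)⁻¹ = t := fun a => by
    have := Subgroup.mem_centralizer_singleton_iff.1 (e.symm (1, pr (dia a))).2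
    rw [mul_inv_eq_iff_eq_mul]; exact this
  have hdN : ∀ a, d a ∈ N := by
    intro a
    refine (Subgroup.mem_normalizer_iff_map_conj_eq).2 ?_
    refine Subgroup.eq_of_le_of_card_ge ?_ ?_
    · rintro _ ⟨x, hx, rfl⟩
      have hx' : x ∈ R := hPR ▸ hx
      obtain ⟨⟨c, b⟩, rfl⟩ := hx'
      rw [SetLike.mem_coe] at *
      show d a * φ (c, b) * (d a)⁻¹ ∈ (P : Subgroup G)
      rw [show b = Multiplicative.ofAdd b.toAdd from rfl, hd, hPR]
      exact ⟨_, rfl⟩
    · exact (Subgroup.card_map_of_injective (MulAut.conj (d a)).injective).ge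
  -- the linear representation
  let V := Additive (P : Subgroup G)
  letI : AddCommGroup V := { (inferInstance : AddGroup V) with
    add_comm := fun a b => Subtype.ext (hPab _ _ a.toMul.2 b.toMul.2) }
  have hV2 : ∀ w : V, 2 • w = 0 := fun w => by
    rw [two_nsmul]; exact Subtype.ext (hR2 _ w.toMul.2)
  letI : Module (ZMod 2) V := AddCommGroup.zmodModule (n := 2) hV2
  let τ : N →* Module.End (ZMod 2) V :=
    { toFun := fun g => AddMonoidHom.toZModLinearMap 2
        (MonoidHom.toAdditive (((P : Subgroup G).normalizerMonoidHom g : MulAut _).toMonoidHom))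
      map_one' := LinearMap.ext fun x => by
        show Additive.ofMul (((P : Subgroup G).normalizerMonoidHom (1 : N) : MulAut _) x.toMul) = x
        rw [map_one]; rfl
      map_mul' := fun a b => LinearMap.ext fun x => by
        show Additive.ofMul (((P : Subgroup G).normalizerMonoidHom (a * b) : MulAut _) x.toMul) = _
        rw [map_mul]; rfl }
  let act : N →* (V ≃ₗ[ZMod 2] V) :=
    (LinearMap.GeneralLinearGroup.generalLinearEquiv (ZMod 2) V).toMonoidHom.comp τ.toHomUnits
  have hact : ∀ (g : N) (w : V), ((act g w).toMul : G) = (g : G) * (w.toMul : G) * (g : G)⁻¹ :=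
    fun g w => rfl
  have hext : ∀ v w : V, (v.toMul : G) = (w.toMul : G) → v = w := fun v w h =>
    Additive.toMul.injective (Subtype.ext h)
  let vt : V := Additive.ofMul ⟨t, hRP htR⟩
  have hvt : vt ≠ 0 := fun h => by
    have : t = 1 := congrArg (fun v : V => (v.toMul : G)) h
    simp [this] at ht
  haveI : Nontrivial V := ⟨⟨vt, 0, hvt⟩⟩
  haveI : Finite (V ≃ₗ[ZMod 2] V) :=
    Finite.of_injective (fun f => (f : V → V)) fun f g h => LinearEquiv.ext (congrFun h)
  set L := act.range with hL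
  have hLsol : Group.IsSolvable L := by
    refine CfsgLib.GW.Local.isSolvable_of_odd ?_
    rw [Nat.odd_iff, ← Nat.two_dvd_ne_zero]
    intro h2'
    have hker : (P : Subgroup G).subgroupOf N ≤ act.ker := fun x hx => by
      rw [MonoidHom.mem_ker]
      refine LinearEquiv.ext fun w => hext _ _ ?_
      rw [hact]
      show (x : G) * (w.toMul : G) * (x : G)⁻¹ = (w.toMul : G)
      rw [hPab _ _ (Subgroup.mem_subgroupOf.1 hx) w.toMul.2, mul_inv_cancel_right]
    rw [← Subgroup.index_ker] at h2'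
    exact P.not_dvd_index (h2'.trans ((Subgroup.index_dvd_of_le hker).trans
      (Subgroup.relIndex_dvd_index_of_le Subgroup.le_normalizer)))
  -- the orbit of `vt`
  let S : Set V := {w | ∃ g : N, act g vt = w}
  have hSmem : vt ∈ S := ⟨1, by rw [map_one]; rfl⟩
  have hS0 : (0 : V) ∉ S := by
    rintro ⟨g, hg⟩
    exact hvt ((act g).map_eq_zero_iff.1 hg)
  have hdact : ∀ (a : Fˣ) (c : Multiplicative (ZMod 2)) (b : F) (h1 : φ (c, Multiplicative.ofAdd b) ∈ P)
      (h2 : φ (c, Multiplicative.ofAdd ((a : F) ^ 2 * b)) ∈ P),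
      act ⟨d a, hdN a⟩ (Additive.ofMul ⟨_, h1⟩) = Additive.ofMul ⟨_, h2⟩ := fun a c b h1 h2 =>
    hext _ _ ((hact _ _).trans (hd a c b))
  have hmemφ : ∀ x, φ x ∈ P := fun x => by show φ x ∈ (P : Subgroup G); rw [hPR]; exact ⟨x, rfl⟩
  let vec : Multiplicative (ZMod 2) → F → V := fun c b =>
    Additive.ofMul ⟨φ (c, Multiplicative.ofAdd b), hmemφ _⟩
  have hvec_surj : ∀ w : V, ∃ c b, vec c b = w := fun w => by
    have hw : (w.toMul : G) ∈ R := hPR ▸ w.toMul.2
    obtain ⟨⟨c, b⟩, hb⟩ := hw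
    exact ⟨c, b.toAdd, hext _ _ hb⟩
  have hvec_inj : ∀ c b c' b', vec c b = vec c' b' → c = c' ∧ b = b' := fun c b c' b' h => by
    have h' := hφ (congrArg (fun w : V => (w.toMul : G)) h : φ _ = φ _)
    exact ⟨congrArg Prod.fst h', Multiplicative.ofAdd.injective (congrArg Prod.snd h')⟩
  have hclosed : ∀ c b, b ≠ 0 → vec c b ∈ S → ∀ b', b' ≠ 0 → vec c b' ∈ S := by
    rintro c b hb ⟨g, hg⟩ b' hb'
    obtain ⟨a, ha⟩ := hfrob.2 (b' / b)
    have ha' : a ^ 2 = b' / b := ha
    have ha0 : a ≠ 0 := by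
      rintro rfl
      rw [zero_pow two_ne_zero, eq_comm, div_eq_zero_iff] at ha'
      exact ha'.elim hb' hb
    refine ⟨⟨d (Units.mk0 a ha0), hdN _⟩ * g, ?_⟩
    rw [map_mul]
    show act _ (act g vt) = _
    rw [hg, hdact _ _ _ _ (hmemφ _)]
    have : ((Units.mk0 a ha0 : Fˣ) : F) ^ 2 * b = b' := by
      rw [Units.val_mk0, ha', div_mul_cancel₀ _ hb]
    exact hext _ _ (by show φ _ = φ _; rw [this])
  have hSodd : ¬ 2 ∣ S.ncard := by
    letI : MulAction N V :=
      { smul := fun g w => act g w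
        one_smul := fun w => by show act 1 w = w; rw [map_one]; rfl
        mul_smul := fun g h w => by show act (g * h) w = _; rw [map_mul]; rfl }
    have hS' : S = MulAction.orbit N vt := rfl
    rw [hS', ← MulAction.index_stabilizer]
    intro h
    have hle : (P : Subgroup G).subgroupOf N ≤ MulAction.stabilizer N vt := fun x hx => by
      refine hext _ _ ((hact x vt).trans ?_)
      show (x : G) * t * (x : G)⁻¹ = t
      rw [hPab _ _ (Subgroup.mem_subgroupOf.1 hx) (hRP htR), mul_inv_cancel_right]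
    exact P.not_dvd_index (h.trans ((Subgroup.index_dvd_of_le hle).trans
      (Subgroup.relIndex_dvd_index_of_le Subgroup.le_normalizer)))
  obtain ⟨a₀, ha0, ha1⟩ : ∃ a : F, a ≠ 0 ∧ a ≠ 1 := by
    by_contra hc
    push Not at hc
    have : Fintype.card F ≤ 2 := by
      rw [← Finset.card_univ]
      refine (Finset.card_le_card (fun x _ => ?_ : (Finset.univ : Finset F) ⊆ {0, 1})).trans
        Finset.card_le_two
      by_cases hx : x = 0 <;> simp [hx, hc x]
    omega
  have hna : ∃ a b : G, a * b ≠ b * a := by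
    refine ⟨d (Units.mk0 a₀ ha0), φ (1, Multiplicative.ofAdd 1), fun h => ha1 ?_⟩
    have h1 := hd (Units.mk0 a₀ ha0) 1 1
    rw [h, mul_inv_cancel_right] at h1
    have h3 := Multiplicative.ofAdd.injective (congrArg Prod.snd (hφ h1))
    rw [Units.val_mk0, mul_one] at h3
    exact hfrob.1 (show a₀ ^ 2 = (1 : F) ^ 2 by rw [one_pow]; exact h3.symm)
  obtain ⟨m, hm, hmt⟩ := exists_moved hab P ht (hRP htR) hna
  have hfull : ∀ w : V, w ≠ 0 → w ∈ S := by
    -- the two classes away from `vt`
    let A : Multiplicative (ZMod 2) → Set V := fun c => {w | ∃ b, b ≠ 0 ∧ vec c b = w}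
    have hAcard : ∀ c, (A c).ncard = 2 ^ n - 1 := fun c => by
      have : A c = vec c '' ({0} : Set F)ᶜ := by ext w; simp [A]
      rw [this, Set.ncard_image_of_injective _ fun b b' h => (hvec_inj _ _ _ _ h).2,
        Set.ncard_compl, Set.ncard_singleton, Nat.card_eq_fintype_card, hq]
    have hvt0 : vec (e ct).1 0 = vt := hext _ _ htφ
    have hcases : ∀ w : V, w ≠ 0 → w = vt ∨ ∃ c, w ∈ A c := fun w hw => by
      obtain ⟨c, b, rfl⟩ := hvec_surj w
      by_cases hb : b = 0
      · subst hb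
        left
        have hz := zmod2_cases
        have hc1 : ∀ c' : Multiplicative (ZMod 2), c' ≠ 1 → c' = Multiplicative.ofAdd 1 := fun c' h =>
          Multiplicative.toAdd.injective ((hz c'.toAdd).resolve_left fun h0 =>
            h (Multiplicative.toAdd.injective h0))
        have hc : c ≠ 1 := by
          rintro rfl
          exact hw (hext _ _ (map_one φ))
        have hct1 : (e ct).1 ≠ 1 := fun h => hvt (by rw [← hvt0, h]; exact hext _ _ (map_one φ))
        rw [hc1 c hc, ← hc1 _ hct1, hvt0]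
      · exact Or.inr ⟨c, b, hb, rfl⟩
    obtain ⟨c, hcS⟩ : ∃ c, A c ⊆ S := by
      let w := act ⟨m, hm⟩ vt
      have hw : w ∈ S := ⟨_, rfl⟩
      rcases hcases w (fun h => hS0 (h ▸ hw)) with h | ⟨c, b, hb, hbw⟩
      · exact absurd (congrArg (fun v : V => (v.toMul : G)) h) hmt
      · exact ⟨c, fun x ⟨b', hb', hx⟩ => hx ▸ hclosed c b hb (hbw ▸ hw) b' hb'⟩
    intro w hw
    rcases hcases w hw with rfl | ⟨c', hc'⟩
    · exact hSmem
    by_cases hcc : c' = c
    · exact hcS (hcc ▸ hc')
    by_contra hwS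
    -- otherwise the orbit has `2 ^ n` elements
    apply hSodd
    have hSeq : S = insert vt (A c) := by
      refine (Set.insert_subset hSmem hcS).antisymm' fun x hx => ?_
      rcases hcases x (fun h => hS0 (h ▸ hx)) with rfl | ⟨c'', b, hb, rfl⟩
      · exact Set.mem_insert _ _
      · right
        refine ⟨b, hb, ?_⟩
        by_contra hne
        have hz : ∀ x y z : ZMod 2, x ≠ y → z ≠ y → z = x := by decide
        have : c'' = c' := Multiplicative.toAdd.injective (hz c'.toAdd c.toAdd c''.toAdd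
          (fun h => hcc (Multiplicative.toAdd.injective h))
          (fun h => hne (by rw [Multiplicative.toAdd.injective h])))
        subst this
        obtain ⟨b', hb', rfl⟩ := hc'
        exact hwS (hclosed c'' b hb hx b' hb')
    have hvtA : vt ∉ A c := by
      rintro ⟨b, hb, hb'⟩
      exact hb (hvec_inj _ _ _ _ (hb'.trans hvt0.symm)).2
    rw [hSeq, Set.ncard_insert_of_notMem hvtA, hAcard, Nat.sub_add_cancel Nat.one_le_two_pow]
    exact dvd_pow_self 2 (by omega)
  have htr : CfsgLib.TransLinear.Trans L.subtype := by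
    intro x y hx hy
    obtain ⟨g, hg⟩ := hfull x hx
    obtain ⟨g', hg'⟩ := hfull y hy
    refine ⟨⟨act (g' * g⁻¹), ⟨_, rfl⟩⟩, ?_⟩
    show act (g' * g⁻¹) x = y
    rw [map_mul, map_inv]
    show act g' ((act g)⁻¹ x) = y
    rw [← hg]
    show act g' ((act g).symm (act g vt)) = y
    rw [(act g).symm_apply_apply, hg']
  have hVcard : Nat.card V = 2 ^ (n + 1) := by
    rw [← hcardR, ← hPR]; exact Nat.card_congr Additive.toMul
  rcases CfsgLib.TransLinear.huppert (ρ := L.subtype) hLsol L.subtype_injective htr with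
    ⟨K, _, _, ev, hev⟩ | hexc
  · have hK : Fintype.card K = 2 ^ (n + 1) := by
      rw [← hVcard, ← Nat.card_eq_fintype_card]; exact (Nat.card_congr ev.toEquiv).symm
    choose A σ hAσ using fun a : Fˣ => hev ⟨act ⟨d a, hdN a⟩, ⟨_, rfl⟩⟩
    have hσinj : Function.Injective σ := by
      intro a b hσ
      have hv0 : ev vt ≠ 0 := fun h => hvt (ev.map_eq_zero_iff.1 h)
      have hfixt : ∀ a, act ⟨d a, hdN a⟩ vt = vt := fun a => hext _ _ ((hact _ _).trans (hdt a))
      have hA : ∀ a, ev vt = A a * σ a (ev vt) := fun a => by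
        have := hAσ a vt
        rwa [show (L.subtype ⟨act ⟨d a, hdN a⟩, ⟨_, rfl⟩⟩) vt = vt from hfixt a] at this
      have hσ0 : σ b (ev vt) ≠ 0 := fun h => hv0 ((σ b).map_eq_zero_iff.1 h)
      have hAab : A a = A b := by
        have h1 := (hA a).symm.trans (hA b)
        rw [hσ] at h1
        exact mul_right_cancel₀ hσ0 h1
      have heq : ∀ w, act ⟨d a, hdN a⟩ w = act ⟨d b, hdN b⟩ w := fun w => ev.injective (by
        have h1 : ev ((L.subtype ⟨act ⟨d a, hdN a⟩, ⟨_, rfl⟩⟩) w) = _ := hAσ a w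
        have h2 : ev ((L.subtype ⟨act ⟨d b, hdN b⟩, ⟨_, rfl⟩⟩) w) = _ := hAσ b w
        rw [hAab, hσ] at h1
        exact h1.trans h2.symm)
      have h1 := heq (vec 1 1)
      rw [hdact a 1 1 _ (hmemφ _), hdact b 1 1 _ (hmemφ _)] at h1
      have h2 := (hvec_inj 1 _ 1 _ h1).2
      rw [mul_one, mul_one] at h2
      exact Units.ext (hfrob.1 h2)
    have hle := (Nat.card_le_card_of_injective σ hσinj).trans (card_ringAut_le hK)
    rw [Nat.card_units, Nat.card_eq_fintype_card, hq] at hle
    have hgrow : n + 2 < 2 ^ n := by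
      clear * - hn
      induction n, hn using Nat.le_induction with
      | base => norm_num
      | succ k hk ih => rw [pow_succ]; omega
    omega
  · rw [hVcard] at hexc
    have h2 : 2 ∣ 2 ^ (n + 1) := dvd_pow_self 2 n.succ_ne_zero
    simp only [Set.mem_insert_iff, Set.mem_singleton_iff] at hexc
    rcases hexc with h | h | h | h | h | h <;> rw [h] at h2 <;> norm_num at h2

end CfsgLib.JankoThompson
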