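import Cfsg.Agent.Lib.Characters.Induction
import Cfsg.Agent.Lib.Characters.Galois
import Cfsg.Agent.Lib.Characters.Artin
import Cfsg.Agent.Lib.Characters.Generalized
import Cfsg.Agent.Lib.SDCyclic.Inner
import Cfsg.Agent.Lib.Blocks.Kernel
import Cfsg.Agent.Lib.PF.Sec9CharsLin

/-!
# Functions on the 2-section of an involution

Class functions on the section of an involution `t` whose centraliser maps onto `Z₂ × E` with a
kernel of odd order, `t` going to the generator of `Z₂`.  The group `E` is arbitrary.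
-/

set_option autoImplicit false
set_option linter.unusedSectionVars false
set_option linter.style.haveILetI false

namespace CfsgLib.JankoThompson

open Cfsg CfsgLib.Characters CfsgLib.Blocks
open scoped ComplexConjugate Classical

universe u v

/-- A class function vanishing on the elements of even order. -/
def OddSupport {E : Type v} [Group E] (f : E → ℂ) : Prop := ∀ k, Even (orderOf k) → f k = 0

/-- The non-trivial character of the group of order two. -/
def signZTwo : Multiplicative (ZMod 2) → ℂ := fun x => if x = 1 then 1 else -1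

theorem signZTwo_mul (a b : Multiplicative (ZMod 2)) :
    signZTwo (a * b) = signZTwo a * signZTwo b := by
  have key : ∀ z : Multiplicative (ZMod 2), z = 1 ∨ z = Multiplicative.ofAdd 1 := by decide
  have h1 : (Multiplicative.ofAdd (1 : ZMod 2)) ≠ 1 := by decide
  have h2 : (Multiplicative.ofAdd (1 : ZMod 2)) * Multiplicative.ofAdd 1 = 1 := by decide
  rcases key a with rfl | rfl <;> rcases key b with rfl | rfl <;> simp [signZTwo, h1, h2]

theorem orderOf_gen : orderOf (Multiplicative.ofAdd (1 : ZMod 2)) = 2 :=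
  orderOf_eq_prime (by decide) (by decide)

/-- The centraliser of `t` maps onto `Z₂ × E` with a kernel of odd order. -/
structure Proj {G : Type u} [Group G] (t : G) (E : Type v) [Group E] where
  /-- the component in `Z₂` -/
  sg : Subgroup.centralizer ({t} : Set G) →* Multiplicative (ZMod 2)
  /-- the component in `E` -/
  proj : Subgroup.centralizer ({t} : Set G) →* E
  sg_t : sg ⟨t, Subgroup.mem_centralizer_singleton_iff.2 rfl⟩ = Multiplicative.ofAdd 1
  proj_t : proj ⟨t, Subgroup.mem_centralizer_singleton_iff.2 rfl⟩ = 1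
  surj : Function.Surjective (sg.prod proj)
  ker_odd : Odd (Nat.card (sg.prod proj).ker)
  t_two : orderOf t = 2

namespace Proj

variable {G : Type u} [Group G] {t : G} {E : Type v} [Group E] (P : Proj t E)

/-- The point `t` of its centraliser. -/
abbrev tC (_P : Proj t E) : Subgroup.centralizer ({t} : Set G) :=
  ⟨t, Subgroup.mem_centralizer_singleton_iff.2 rfl⟩

/-- The sign of an element of the centraliser. -/
noncomputable def eps (x : Subgroup.centralizer ({t} : Set G)) : ℂ := signZTwo (P.sg x)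

theorem sg_cases (x : Subgroup.centralizer ({t} : Set G)) :
    (P.sg x = 1 ∧ P.eps x = 1) ∨ (P.sg x = Multiplicative.ofAdd 1 ∧ P.eps x = -1) := by
  have key : ∀ z : Multiplicative (ZMod 2), z = 1 ∨ z = Multiplicative.ofAdd 1 := by decide
  rcases key (P.sg x) with h | h
  · exact Or.inl ⟨h, by simp [eps, signZTwo, h]⟩
  · refine Or.inr ⟨h, ?_⟩
    rw [eps, signZTwo, h, if_neg (by decide)]

/-- The function on the centraliser attached to `f`. -/
noncomputable def phi (f : E → ℂ) : Subgroup.centralizer ({t} : Set G) → ℂ :=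
  fun x => (1 - P.eps x) * f (P.proj x)

theorem phi_ne {f : E → ℂ} (hs : OddSupport f) {x : Subgroup.centralizer ({t} : Set G)}
    (hx : P.phi f x ≠ 0) :
    P.sg x = Multiplicative.ofAdd 1 ∧ Odd (orderOf (P.proj x)) ∧ P.phi f x = 2 * f (P.proj x) := by
  rcases P.sg_cases x with ⟨-, h⟩ | ⟨h, h'⟩
  · exact absurd (by simp [phi, h]) hx
  · refine ⟨h, Nat.not_even_iff_odd.1 fun he => hx ?_, ?_⟩
    · rw [phi, hs _ he, mul_zero]
    · rw [phi, h']; ring

theorem phi_class {f : E → ℂ} (hf : IsClassFunction E f) :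
    IsClassFunction (Subgroup.centralizer ({t} : Set G)) (P.phi f) := fun a b => by
  simp only [phi, eps, map_mul, map_inv, hf (P.proj a) (P.proj b)]
  rw [show P.sg b * P.sg a * (P.sg b)⁻¹ = P.sg a by rw [mul_comm (P.sg b), mul_inv_cancel_right]]

variable [Finite G]

theorem pow_eq_t {x : Subgroup.centralizer ({t} : Set G)} (hsg : P.sg x = Multiplicative.ofAdd 1)
    {N : ℕ} (hN : Odd N) (hd : orderOf (P.proj x) * Nat.card (P.sg.prod P.proj).ker ∣ N) :
    (x : G) ^ N = t := by
  obtain ⟨c, hc⟩ := hd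
  have ho : Odd (orderOf (P.proj x)) :=
    hN.of_dvd_nat (Dvd.intro _ (by rw [hc, mul_assoc] : orderOf (P.proj x) * _ = N))
  set w := x ^ orderOf (P.proj x) * P.tC
  have hw : w ∈ (P.sg.prod P.proj).ker := by
    rw [MonoidHom.mem_ker, MonoidHom.prod_apply, map_mul, map_mul, map_pow, map_pow, hsg, P.sg_t,
      P.proj_t, pow_orderOf_eq_one, mul_one]
    refine Prod.ext ?_ rfl
    obtain ⟨k, hk⟩ := ho
    show (Multiplicative.ofAdd (1 : ZMod 2)) ^ orderOf (P.proj x) * Multiplicative.ofAdd 1 = 1
    rw [hk, ← pow_succ, show 2 * k + 1 + 1 = 2 * (k + 1) by ring, pow_mul,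
      show (Multiplicative.ofAdd (1 : ZMod 2)) ^ 2 = 1 by decide, one_pow]
  have ht2 : P.tC * P.tC = 1 := Subtype.ext (by
    have h := pow_orderOf_eq_one t
    rwa [P.t_two, pow_two] at h)
  have hx' : x ^ orderOf (P.proj x) = w * P.tC := by rw [mul_assoc, ht2, mul_one]
  have hcomm : Commute w P.tC := Subtype.ext (Subgroup.mem_centralizer_singleton_iff.1 w.2)
  have hwk : w ^ Nat.card (P.sg.prod P.proj).ker = 1 := orderOf_dvd_iff_pow_eq_one.1 (by
    rw [← Subgroup.orderOf_mk w hw]; exact orderOf_dvd_natCard _)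
  have h : x ^ N = P.tC := by
    rw [hc, pow_mul, pow_mul, hx', hcomm.mul_pow, hwk, one_mul, ← pow_mul]
    have hodd : Odd (Nat.card (P.sg.prod P.proj).ker * c) :=
      hN.of_dvd_nat ⟨orderOf (P.proj x), by rw [hc]; ring⟩
    obtain ⟨r, hr⟩ := hodd
    rw [hr, pow_succ, pow_mul, pow_two, ht2, one_pow, one_mul]
  exact congrArg Subtype.val h

/-- The 2-part of an element of the support is `t`. -/
theorem isPPart_supp {f : E → ℂ} (hs : OddSupport f) {x : Subgroup.centralizer ({t} : Set G)}
    (hx : P.phi f x ≠ 0) : IsPPart 2 (x : G) t := by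
  obtain ⟨hsg, ho, -⟩ := P.phi_ne hs hx
  have hN := ho.mul P.ker_odd
  have h := P.pow_eq_t hsg hN dvd_rfl
  have hc : Commute t (x : G) := (Subgroup.mem_centralizer_singleton_iff.1 x.2).symm
  refine ⟨t * x, ?_, ?_, ⟨1, by rw [P.t_two, pow_one]⟩, ?_⟩
  · have h2 := pow_orderOf_eq_one t
    rw [P.t_two, pow_two] at h2
    rw [← mul_assoc, h2, one_mul]
  · exact (Commute.refl t).mul_right hc
  · intro hdvd
    have h1 : (t * (x : G)) ^ (orderOf (P.proj x) * Nat.card (P.sg.prod P.proj).ker) = 1 := by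
      rw [hc.mul_pow, h]
      obtain ⟨r, hr⟩ := hN
      rw [hr, ← pow_succ, show 2 * r + 1 + 1 = 2 * (r + 1) by ring, pow_mul]
      have h2 := pow_orderOf_eq_one t
      rw [P.t_two] at h2
      rw [h2, one_pow]
    exact Nat.not_even_iff_odd.2 hN
      (even_iff_two_dvd.2 (hdvd.trans (orderOf_dvd_of_pow_eq_one h1)))

section Ind

variable [Fintype G]

/-- The induced function. -/
noncomputable def sec (f : E → ℂ) : G → ℂ := indFun (Subgroup.centralizer ({t} : Set G)) (P.phi f)

theorem sec_add (f g : E → ℂ) : P.sec (f + g) = P.sec f + P.sec g := by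
  rw [sec, sec, sec, ← Induction.indFun_add]
  congr 1
  funext x
  simp only [phi, Pi.add_apply]
  ring

theorem sec_sub (f g : E → ℂ) : P.sec (f - g) = P.sec f - P.sec g := by
  rw [sec, sec, sec, ← Induction.indFun_sub]
  congr 1
  funext x
  simp only [phi, Pi.sub_apply]
  ring

theorem sec_smul (a : ℂ) (f : E → ℂ) : P.sec (a • f) = a • P.sec f := by
  rw [sec, sec, ← Induction.indFun_smul]
  congr 1
  funext x
  simp only [phi, Pi.smul_apply, smul_eq_mul]
  ring

theorem sec_class (f : E → ℂ) : IsClassFunction G (P.sec f) :=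
  Induction.isClassFunction_indFun (H := Subgroup.centralizer ({t} : Set G)) _

theorem sec_gen {f : E → ℂ} (hf : IsGeneralizedCharacter E f) :
    IsGeneralizedCharacter G (P.sec f) := by
  refine CharArtin.isGeneralizedCharacter_indFun _ ?_
  obtain ⟨a, b, ha, hb, rfl⟩ := hf
  let l : Subgroup.centralizer ({t} : Set G) →* ℂ :=
    { toFun := P.eps
      map_one' := by simp [eps, signZTwo]
      map_mul' := fun x y => by simp [eps, signZTwo_mul] }
  exact isGeneralizedCharacter_mul
    (isGeneralizedCharacter_sub (isGeneralizedCharacter_one)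
      (isGeneralizedCharacter_of_isCharacter (Induction.isCharacter_monoidHom l)))
    ⟨_, _, CharGalois.isCharacter_comp ha P.proj, CharGalois.isCharacter_comp hb P.proj,
      funext fun x => rfl⟩

/-- The induced function vanishes outside the section of `t`. -/
theorem sec_eq_zero {f : E → ℂ} (hs : OddSupport f) {g : G}
    (hg : ∀ u, IsPPart 2 g u → ¬ IsConj t u) : P.sec f g = 0 := by
  rw [sec, Induction.indFun_apply, Finset.sum_eq_zero, mul_zero]
  intro x _
  by_cases hm : x⁻¹ * g * x ∈ Subgroup.centralizer ({t} : Set G)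
  · rw [Induction.extendByZero_mem _ _ hm]
    by_contra hne
    have h1 := IsPPart.conj (P.isPPart_supp hs hne) x
    rw [show x * (x⁻¹ * g * x) * x⁻¹ = g by group] at h1
    exact hg _ h1 (isConj_iff.2 ⟨x, rfl⟩)
  · exact Induction.extendByZero_notMem _ _ hm

theorem sec_odd {f : E → ℂ} (hs : OddSupport f) {g : G} (hg : Odd (orderOf g)) : P.sec f g = 0 := by
  refine P.sec_eq_zero hs fun u hu hc => ?_
  have h1 : IsPPart 2 g 1 := ⟨g, one_mul g, Commute.one_left g, ⟨0, by simp⟩,
    fun h => (Nat.not_even_iff_odd.2 hg) (even_iff_two_dvd.2 h)⟩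
  rw [IsPPart.unique Nat.prime_two hu h1, isConj_one_left] at hc
  have := P.t_two
  rw [hc, orderOf_one] at this
  omega

theorem sec_one {f : E → ℂ} (hs : OddSupport f) : P.sec f 1 = 0 := P.sec_odd hs (by simp)

/-- The induced function on the support. -/
theorem sec_apply {f f' : E → ℂ} (hs : OddSupport f) (hs' : OddSupport f')
    (hc : IsClassFunction E f') {x : Subgroup.centralizer ({t} : Set G)} (hx : P.phi f x ≠ 0) :
    P.sec f' (x : G) = P.phi f' x := by
  have key : ∀ g : G, extendByZero (Subgroup.centralizer ({t} : Set G)) (P.phi f') (g⁻¹ * (x : G) * g) =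
      if g ∈ Subgroup.centralizer ({t} : Set G) then P.phi f' x else 0 := by
    intro g
    split_ifs with hg
    · have hm : g⁻¹ * (x : G) * g ∈ Subgroup.centralizer ({t} : Set G) :=
        Subgroup.mul_mem _ (Subgroup.mul_mem _ (Subgroup.inv_mem _ hg) x.2) hg
      rw [Induction.extendByZero_mem _ _ hm]
      have := P.phi_class hc x (⟨g, hg⟩ : Subgroup.centralizer ({t} : Set G))⁻¹
      rw [inv_inv] at this
      exact this
    · by_cases hm : g⁻¹ * (x : G) * g ∈ Subgroup.centralizer ({t} : Set G)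
      · rw [Induction.extendByZero_mem _ _ hm]
        by_contra hne
        have h1 := IsPPart.conj (P.isPPart_supp hs' hne) g
        rw [show g * (g⁻¹ * (x : G) * g) * g⁻¹ = (x : G) by group] at h1
        have h2 := IsPPart.unique Nat.prime_two h1 (P.isPPart_supp hs hx)
        exact hg (Subgroup.mem_centralizer_singleton_iff.2 (mul_inv_eq_iff_eq_mul.1 h2))
      · exact Induction.extendByZero_notMem _ _ hm
  rw [sec, Induction.indFun_apply, Finset.sum_congr rfl fun g _ => key g, ← Finset.sum_filter,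
    Finset.sum_const, nsmul_eq_mul]
  have hcard : (Finset.univ.filter (fun g => g ∈ Subgroup.centralizer ({t} : Set G))).card =
      Nat.card (Subgroup.centralizer ({t} : Set G)) := by
    rw [Nat.card_eq_fintype_card, Fintype.card_subtype]
  rw [hcard, ← mul_assoc, inv_mul_cancel₀ (Nat.cast_ne_zero.2 Nat.card_pos.ne'), one_mul]

variable [Fintype E]

/-- Averages over the centraliser of functions pulled back from `Z₂ × E`. -/
theorem avg_pull (F : Multiplicative (ZMod 2) × E → ℂ) :
    (Nat.card (Subgroup.centralizer ({t} : Set G)) : ℂ)⁻¹ *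
        ∑ x : Subgroup.centralizer ({t} : Set G), F (P.sg x, P.proj x) =
      (2 * Nat.card E : ℂ)⁻¹ * ∑ y, F y := by
  set φ := P.sg.prod P.proj
  have hfib : ∀ y, (Finset.univ.filter fun x => φ x = y).card = Nat.card φ.ker := by
    intro y
    obtain ⟨x₀, rfl⟩ := P.surj y
    rw [Nat.card_eq_fintype_card, ← Finset.card_univ]
    refine Finset.card_bij (fun x hx => ⟨x * x₀⁻¹, ?_⟩) (fun _ _ => Finset.mem_univ _) ?_ ?_
    · rw [MonoidHom.mem_ker, map_mul, map_inv, (Finset.mem_filter.1 hx).2, mul_inv_cancel]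
    · intro a _ b _ h
      exact mul_right_cancel (congrArg Subtype.val h)
    · intro b _
      exact ⟨(b : Subgroup.centralizer ({t} : Set G)) * x₀, Finset.mem_filter.2
        ⟨Finset.mem_univ _, by rw [map_mul, MonoidHom.mem_ker.1 b.2, one_mul]⟩,
        Subtype.ext (mul_inv_cancel_right _ _)⟩
  rw [← Finset.sum_fiberwise Finset.univ (fun x => φ x)]
  rw [Finset.sum_congr rfl fun y _ => Finset.sum_congr rfl (g := fun _ => F y) fun x hx => by
    rw [show (P.sg x, P.proj x) = φ x from rfl, (Finset.mem_filter.1 hx).2]]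
  simp only [Finset.sum_const, nsmul_eq_mul, hfib, ← Finset.mul_sum]
  have hcard : Nat.card (Subgroup.centralizer ({t} : Set G)) = Nat.card φ.ker * (2 * Nat.card E) := by
    rw [← φ.ker.card_mul_index, Subgroup.index_ker, MonoidHom.range_eq_top.2 P.surj,
      Subgroup.card_top, Nat.card_prod]
    congr 1
    congr 1
    exact Nat.card_zmod 2
  rw [hcard, ← mul_assoc]
  congr 1
  have : (Nat.card φ.ker : ℂ) ≠ 0 := Nat.cast_ne_zero.2 Nat.card_pos.ne'
  push_cast
  field_simp

theorem sum_sign (F : Multiplicative (ZMod 2) × E → ℂ) (h : ∀ k, F (1, k) = 0) :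
    ∑ y, F y = ∑ k, F (Multiplicative.ofAdd 1, k) := by
  rw [Fintype.sum_prod_type, Finset.sum_eq_single (Multiplicative.ofAdd (1 : ZMod 2))]
  · intro a _ ha
    refine Finset.sum_eq_zero fun k _ => ?_
    have key : ∀ z : Multiplicative (ZMod 2), z = 1 ∨ z = Multiplicative.ofAdd 1 := by decide
    rw [(key a).resolve_right ha]
    exact h k
  · simp

/-- The isometry, up to the factor two. -/
theorem sec_inner {f f' : E → ℂ} (hs : OddSupport f) (hs' : OddSupport f')
    (hc : IsClassFunction E f') : classInner (P.sec f) (P.sec f') = 2 * classInner f f' := by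
  conv_lhs => rw [sec]
  rw [Induction.classInner_indFun _ _ (P.sec_class f'), classInner,
    Finset.sum_congr rfl (g := fun x => ((1 - signZTwo (P.sg x)) * f (P.proj x)) *
      conj ((1 - signZTwo (P.sg x)) * f' (P.proj x))) fun x _ => ?_,
    P.avg_pull (fun y => ((1 - signZTwo y.1) * f y.2) * conj ((1 - signZTwo y.1) * f' y.2)),
    sum_sign _ (fun k => by simp [signZTwo])]
  · have hm : (Multiplicative.ofAdd (1 : ZMod 2)) ≠ 1 := by decide
    simp only [signZTwo, hm, if_false, sub_neg_eq_add, map_mul, map_add, map_one, classInner,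
      Finset.mul_sum]
    refine Finset.sum_congr rfl fun k _ => ?_
    have : (Nat.card E : ℂ) ≠ 0 := Nat.cast_ne_zero.2 Nat.card_pos.ne'
    field_simp
    ring
  · by_cases hx : P.phi f x = 0
    · rw [show (1 - signZTwo (P.sg x)) * f (P.proj x) = 0 from hx, hx, zero_mul, zero_mul]
    · rw [P.sec_apply hs hs' hc hx]; rfl

/-- The coefficient of a class function that only depends on the image on the support. -/
theorem inner_of_val {f : E → ℂ} {χ : G → ℂ} (hχ : IsClassFunction G χ)
    {w : E → ℂ} (hw : ∀ x, P.phi f x ≠ 0 → χ (x : G) = w (P.proj x)) :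
    classInner (P.sec f) χ = classInner f w := by
  rw [sec, Induction.classInner_indFun _ _ hχ, classInner,
    Finset.sum_congr rfl (g := fun x => ((1 - signZTwo (P.sg x)) * f (P.proj x)) *
      conj (w (P.proj x))) fun x _ => ?_,
    P.avg_pull (fun y => ((1 - signZTwo y.1) * f y.2) * conj (w y.2)),
    sum_sign _ (fun k => by simp [signZTwo])]
  · have hm : (Multiplicative.ofAdd (1 : ZMod 2)) ≠ 1 := by decide
    simp only [signZTwo, hm, if_false, sub_neg_eq_add, classInner, Finset.mul_sum]
    refine Finset.sum_congr rfl fun k _ => ?_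
    have : (Nat.card E : ℂ) ≠ 0 := Nat.cast_ne_zero.2 Nat.card_pos.ne'
    field_simp
    ring
  · by_cases hx : P.phi f x = 0
    · rw [show (1 - signZTwo (P.sg x)) * f (P.proj x) = 0 from hx, hx, zero_mul, zero_mul]
    · rw [hw x hx]; rfl

variable {M : Ideal AlgInt}

/-- On the section a character of the principal block only depends on the image. -/
theorem val_congr (hM : IsPModular 2 M) {χ : IrrCharacter G} (hχ : χ ∈ principalBlock M G)
    {v w : Subgroup.centralizer ({t} : Set G)} (hv : Odd (orderOf v)) (hw : Odd (orderOf w))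
    (h : IsConj (P.proj v) (P.proj w)) :
    (χ : G → ℂ) (t * (v : G)) = (χ : G → ℂ) (t * (w : G)) := by
  haveI : Fact (Nat.Prime 2) := ⟨Nat.prime_two⟩
  have hnd : ∀ {x : Subgroup.centralizer ({t} : Set G)}, Odd (orderOf x) → ¬ 2 ∣ orderOf x :=
    fun hx e => (Nat.not_even_iff_odd.2 hx) (even_iff_two_dvd.2 e)
  have hsg : ∀ {x : Subgroup.centralizer ({t} : Set G)}, Odd (orderOf x) → P.sg x = 1 := by
    intro x hx
    rcases P.sg_cases x with ⟨h1, -⟩ | ⟨h1, -⟩
    · exact h1
    · exfalso
      have h2 := orderOf_map_dvd P.sg x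
      rw [h1, orderOf_gen] at h2
      exact hnd hx h2
  refine SDCyclic.section_value hM ⟨1, by rw [P.t_two, pow_one]⟩ (hnd hv) (hnd hw) hχ
    fun ψ hψ => ?_
  obtain ⟨ψ', hψ', e⟩ := PF.Nine.exists_descend (QuotientGroup.mk' (P.sg.prod P.proj).ker)
    (QuotientGroup.mk'_surjective _) ψ.2 fun x hx =>
      principalBlock_kernel hM hψ
        (fun e => (Nat.not_even_iff_odd.2 P.ker_odd) (even_iff_two_dvd.2 e))
        ((QuotientGroup.eq_one_iff x).1 hx)
  rw [e, e]
  refine classFunction_eq_of_isConj (irr_isClassFunction ⟨ψ', hψ'⟩) ?_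
  obtain ⟨c, hc⟩ := isConj_iff.1 h
  obtain ⟨c₀, hc₀⟩ := P.surj (1, c)
  refine isConj_iff.2 ⟨QuotientGroup.mk' _ c₀, ?_⟩
  rw [← map_mul, ← map_inv, ← map_mul]
  refine ((QuotientGroup.eq (s := (P.sg.prod P.proj).ker)).2 ?_ :)
  rw [MonoidHom.mem_ker, map_mul, map_inv, map_mul, map_mul, map_inv, hc₀]
  simp only [MonoidHom.prod_apply, Prod.mk_mul_mk, Prod.inv_mk, hsg hv, hsg hw, hc, inv_one,
    mul_one, inv_mul_cancel]
  rfl

omit [Fintype E] in
/-- Elements of odd order of `E` lift to elements of odd order of the centraliser. -/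
theorem exists_lift : ∃ lift : E → Subgroup.centralizer ({t} : Set G),
    ∀ k, Odd (orderOf k) → P.proj (lift k) = k ∧ Odd (orderOf (lift k)) := by
  suffices h : ∀ k : E, ∃ y : Subgroup.centralizer ({t} : Set G),
      Odd (orderOf k) → P.proj y = k ∧ Odd (orderOf y) by
    choose l hl using h
    exact ⟨l, hl⟩
  intro k
  by_cases ho : Odd (orderOf k)
  · obtain ⟨x, hx⟩ := P.surj (1, k)
    have h1 : P.sg x = 1 := congrArg Prod.fst hx
    have h2 : P.proj x = k := congrArg Prod.snd hx
    have hxo : Odd (orderOf x) := by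
      refine Odd.of_dvd_nat (ho.mul P.ker_odd) (orderOf_dvd_of_pow_eq_one ?_)
      rw [pow_mul]
      have hm : x ^ orderOf k ∈ (P.sg.prod P.proj).ker := by
        rw [MonoidHom.mem_ker, MonoidHom.prod_apply, map_pow, map_pow, h1, h2, one_pow,
          pow_orderOf_eq_one]
        rfl
      exact orderOf_dvd_iff_pow_eq_one.1 (by
        rw [← Subgroup.orderOf_mk _ hm]; exact orderOf_dvd_natCard _)
    exact ⟨x, fun _ => ⟨h2, hxo⟩⟩
  · exact ⟨1, fun h => absurd h ho⟩

/-- The coefficient of a character of the principal block. -/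
theorem inner_principal (hM : IsPModular 2 M) {f : E → ℂ} (hs : OddSupport f)
    {χ : IrrCharacter G} (hχ : χ ∈ principalBlock M G)
    {lift : E → Subgroup.centralizer ({t} : Set G)}
    (hl : ∀ k, Odd (orderOf k) → P.proj (lift k) = k ∧ Odd (orderOf (lift k))) :
    classInner (P.sec f) (χ : G → ℂ) =
      classInner f (fun k => (χ : G → ℂ) (t * ((lift k : Subgroup.centralizer ({t} : Set G)) : G))) := by
  refine P.inner_of_val (irr_isClassFunction χ) fun x hx => ?_
  obtain ⟨hsg, ho, -⟩ := P.phi_ne hs hx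
  have ht : t * t = 1 := by
    have h := pow_orderOf_eq_one t
    rwa [P.t_two, pow_two] at h
  have hy : Odd (orderOf (P.tC * x)) := by
    refine Odd.of_dvd_nat (ho.mul P.ker_odd) (orderOf_dvd_of_pow_eq_one ?_)
    have hm : (P.tC * x) ^ orderOf (P.proj x) ∈ (P.sg.prod P.proj).ker := by
      rw [MonoidHom.mem_ker, MonoidHom.prod_apply, map_pow, map_pow, map_mul, map_mul, hsg, P.sg_t,
        P.proj_t, one_mul, pow_orderOf_eq_one,
        show (Multiplicative.ofAdd (1 : ZMod 2)) * Multiplicative.ofAdd 1 = 1 from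
          by decide, one_pow]
      rfl
    rw [pow_mul]
    exact orderOf_dvd_iff_pow_eq_one.1 (by
      rw [← Subgroup.orderOf_mk _ hm]; exact orderOf_dvd_natCard _)
  obtain ⟨e1, e2⟩ := hl _ ho
  rw [← P.val_congr hM hχ hy e2 (by rw [map_mul, P.proj_t, one_mul, e1])]
  refine congrArg (χ : G → ℂ) ?_
  show (x : G) = t * (t * x)
  rw [← mul_assoc, ht, one_mul]

/-- The involutions of the centraliser. -/
noncomputable def invs (_P : Proj t E) : Finset (Subgroup.centralizer ({t} : Set G)) :=
  Finset.univ.filter fun a => orderOf a = 2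

/-- The weighted number of pairs of involutions with product in the section. -/
theorem class_product_sum {f : E → ℂ} (hs : OddSupport f) :
    (Nat.card (Subgroup.centralizer ({t} : Set G)) : ℂ) *
        (∑ a ∈ Finset.univ.filter (fun g : G => orderOf g = 2),
          ∑ b ∈ Finset.univ.filter (fun g : G => orderOf g = 2), P.sec f (a * b)) =
      (Nat.card G : ℂ) * ∑ a ∈ P.invs, ∑ b ∈ P.invs, P.phi f (a * b) := by
  set I := Finset.univ.filter (fun g : G => orderOf g = 2) with hI
  let N : G → ℂ := fun x => ∑ a ∈ I, if a * x ∈ I then 1 else 0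
  have hIinv : ∀ a ∈ I, a⁻¹ = a ∧ a * a = 1 := fun a ha => by
    have h : a * a = 1 := by
      have h := pow_orderOf_eq_one a
      rwa [(Finset.mem_filter.1 ha).2, pow_two] at h
    exact ⟨inv_eq_of_mul_eq_one_right h, h⟩
  have hIconj : ∀ w a : G, w * a * w⁻¹ ∈ I ↔ a ∈ I := fun w a => by
    simp only [hI, Finset.mem_filter, Finset.mem_univ, true_and]
    rw [← MulAut.conj_apply, MulEquiv.orderOf_eq]
  have hN : IsClassFunction G N := by
    intro x w
    show ∑ a ∈ I, (if a * (w * x * w⁻¹) ∈ I then (1 : ℂ) else 0) = _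
    refine Finset.sum_equiv (MulAut.conj w⁻¹).toEquiv (fun a => ?_) (fun a _ => ?_)
    · exact (hIconj w⁻¹ a).symm
    · show _ = if (w⁻¹ * a * w⁻¹⁻¹) * x ∈ I then (1 : ℂ) else 0
      rw [show (w⁻¹ * a * w⁻¹⁻¹) * x = w⁻¹ * (a * (w * x * w⁻¹)) * w⁻¹⁻¹ by group]
      exact (if_congr (hIconj w⁻¹ _) rfl rfl).symm
  have hswap : (∑ a ∈ I, ∑ b ∈ I, P.sec f (a * b)) = ∑ x : G, P.sec f x * N x := by
    simp only [N, Finset.mul_sum, mul_ite, mul_one, mul_zero]
    conv_rhs => rw [Finset.sum_comm]
    refine Finset.sum_congr rfl fun a ha => ?_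
    rw [← Finset.sum_filter]
    refine Finset.sum_equiv (Equiv.mulLeft a) (fun b => ?_) (fun b _ => rfl)
    simp [← mul_assoc, (hIinv a ha).2]
  have hfrob := Induction.sum_indFun_mul (Subgroup.centralizer ({t} : Set G)) (P.phi f) hN
  have hmemI : ∀ h : Subgroup.centralizer ({t} : Set G), h ∈ P.invs ↔ (h : G) ∈ I := fun h => by
    simp [invs, hI]
  have hsupp : ∀ h : Subgroup.centralizer ({t} : Set G), P.phi f h * N h =
      ∑ a ∈ P.invs, if a * h ∈ P.invs then P.phi f h else 0 := by
    intro h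
    by_cases h0 : P.phi f h = 0
    · simp [h0]
    simp only [N, Finset.mul_sum, mul_ite, mul_one, mul_zero]
    have hu := P.isPPart_supp hs h0
    have hinC : ∀ a ∈ I, a * (h : G) ∈ I → a ∈ Subgroup.centralizer ({t} : Set G) := by
      intro a ha hah
      obtain ⟨hai, -⟩ := hIinv a ha
      obtain ⟨-, hah2⟩ := hIinv _ hah
      have h1 : a * (h : G) * a⁻¹ = (h : G)⁻¹ := by
        rw [hai, eq_inv_iff_mul_eq_one]
        calc a * h * a * h = a * (h : G) * (a * h) := by group
          _ = 1 := hah2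
      have h2 := IsPPart.conj hu a
      rw [h1] at h2
      have h3 : IsPPart 2 (h : G)⁻¹ t⁻¹ := by
        obtain ⟨y, hy, hc, hk, hy2⟩ := hu
        exact ⟨y⁻¹, by rw [← hy, mul_inv_rev, hc.inv_inv.eq], hc.inv_inv,
          by rwa [orderOf_inv], by rwa [orderOf_inv]⟩
      have h4 := IsPPart.unique Nat.prime_two h2 h3
      rw [inv_eq_of_mul_eq_one_right (show t * t = 1 by
        have h := pow_orderOf_eq_one t
        rwa [P.t_two, pow_two] at h)] at h4
      exact Subgroup.mem_centralizer_singleton_iff.2 (mul_inv_eq_iff_eq_mul.1 h4)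
    rw [← Finset.sum_filter, ← Finset.sum_filter]
    symm
    refine Finset.sum_bij (fun a _ => (a : G)) (fun a ha => ?_) ?_
      (fun a ha => ?_) (fun a _ => rfl)
    · rw [Finset.mem_filter, hmemI, hmemI] at ha
      exact Finset.mem_filter.2 ⟨ha.1, by simpa using ha.2⟩
    · intro a _ b _ hab
      exact SetLike.coe_eq_coe.1 hab
    · rw [Finset.mem_filter] at ha
      exact ⟨⟨a, hinC a ha.1 ha.2⟩, Finset.mem_filter.2 ⟨(hmemI _).2 ha.1, (hmemI _).2 ha.2⟩, rfl⟩
  have hsumC : (∑ h : Subgroup.centralizer ({t} : Set G), P.phi f h * N h) =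
      ∑ a ∈ P.invs, ∑ b ∈ P.invs, P.phi f (a * b) := by
    rw [Finset.sum_congr rfl fun h _ => hsupp h, Finset.sum_comm]
    refine Finset.sum_congr rfl fun a ha => ?_
    have ha2 : a * a = 1 := by
      have h := pow_orderOf_eq_one a
      rwa [(Finset.mem_filter.1 ha).2, pow_two] at h
    rw [← Finset.sum_filter]
    refine Finset.sum_equiv (Equiv.mulLeft a) (fun b => ?_) (fun b _ => ?_)
    · simp
    · show P.phi f b = P.phi f (a * (a * b))
      rw [← mul_assoc, ha2, one_mul]
  rw [hswap, show ∑ x : G, P.sec f x * N x = (Nat.card G : ℂ) *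
    ((Nat.card (Subgroup.centralizer ({t} : Set G)) : ℂ)⁻¹ *
      ∑ h : Subgroup.centralizer ({t} : Set G), P.phi f h * N h) by
    rw [← hfrob, ← mul_assoc, mul_inv_cancel₀ (Nat.cast_ne_zero.2 Nat.card_pos.ne'), one_mul,
      sec], hsumC]
  have : (Nat.card (Subgroup.centralizer ({t} : Set G)) : ℂ) ≠ 0 :=
    Nat.cast_ne_zero.2 Nat.card_pos.ne'
  field_simp

end Ind

/-- The involutions over an image are conjugate under the kernel. -/
theorem card_lifts {a : Subgroup.centralizer ({t} : Set G)} (ha : a * a = 1) :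
    Nat.card {h : Subgroup.centralizer ({t} : Set G) //
        h * h = 1 ∧ P.sg h = P.sg a ∧ P.proj h = P.proj a} *
      Nat.card {o : (P.sg.prod P.proj).ker //
        (o : Subgroup.centralizer ({t} : Set G)) * a = a * o} =
      Nat.card (P.sg.prod P.proj).ker := by
  set φ := P.sg.prod P.proj
  have hai : a⁻¹ = a := inv_eq_of_mul_eq_one_right ha
  let Φ : φ.ker → {h : Subgroup.centralizer ({t} : Set G) //
      h * h = 1 ∧ P.sg h = P.sg a ∧ P.proj h = P.proj a} := fun o =>
    ⟨(o : Subgroup.centralizer ({t} : Set G)) * a * (o : Subgroup.centralizer ({t} : Set G))⁻¹, by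
      rw [show (o : Subgroup.centralizer ({t} : Set G)) * a *
          (o : Subgroup.centralizer ({t} : Set G))⁻¹ *
          ((o : Subgroup.centralizer ({t} : Set G)) * a *
          (o : Subgroup.centralizer ({t} : Set G))⁻¹) = (o : Subgroup.centralizer ({t} : Set G)) *
          (a * a) * (o : Subgroup.centralizer ({t} : Set G))⁻¹ by group, ha, mul_one, mul_inv_cancel],
      by
        have h : φ o = 1 := o.2
        have h1 : P.sg o = 1 := congrArg Prod.fst h
        have h2 : P.proj o = 1 := congrArg Prod.snd h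
        simp [h1, h2]⟩
  have hsurj : Function.Surjective Φ := by
    rintro ⟨h, hh2, hs1, hs2⟩
    set d := h * a with hd
    have hdO : d ∈ φ.ker := by
      rw [MonoidHom.mem_ker, map_mul, show φ h = φ a from Prod.ext hs1 hs2, ← map_mul, ha, map_one]
    obtain ⟨k, hk⟩ : ∃ k : ℕ, (d ^ 2) ^ k = d := exists_pow_eq_self_of_coprime (n := 2) (by
      rw [Nat.coprime_two_left, ← Subgroup.orderOf_mk d hdO]
      exact P.ker_odd.of_dvd_nat (orderOf_dvd_natCard _))
    have hdinv : a * d * a⁻¹ = d⁻¹ := by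
      rw [hd, mul_inv_rev, inv_eq_of_mul_eq_one_right hh2, hai]
      calc a * (h * a) * a = a * h * (a * a) := by group
        _ = a * h := by rw [ha, mul_one]
    refine ⟨⟨d ^ k, pow_mem hdO k⟩, Subtype.ext ?_⟩
    show d ^ k * a * (d ^ k)⁻¹ = h
    have h1 : a * (d ^ k)⁻¹ = d ^ k * a := by
      have : a * d ^ k * a⁻¹ = (d ^ k)⁻¹ := by rw [← conj_pow, hdinv, inv_pow]
      calc a * (d ^ k)⁻¹ = a * (a * d ^ k * a⁻¹) := by rw [this]
        _ = a * a * d ^ k * a⁻¹ := by group
        _ = _ := by rw [ha, one_mul, hai]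
    rw [mul_assoc, h1, ← mul_assoc, ← pow_two, ← pow_mul, mul_comm, pow_mul, hk, hd,
      mul_assoc, ha, mul_one]
  let Cc : Subgroup φ.ker :=
    (Subgroup.centralizer ({a} : Set (Subgroup.centralizer ({t} : Set G)))).subgroupOf φ.ker
  have hC : Nat.card {o : φ.ker // (o : Subgroup.centralizer ({t} : Set G)) * a = a * o} =
      Nat.card Cc := Nat.card_congr (Equiv.subtypeEquivRight fun o => by
        rw [Subgroup.mem_subgroupOf, Subgroup.mem_centralizer_singleton_iff])
  have hfib : ∀ o o' : φ.ker, Φ o = Φ o' ↔ o⁻¹ * o' ∈ Cc := by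
    intro o o'
    rw [Subgroup.mem_subgroupOf, Subgroup.mem_centralizer_singleton_iff, Subtype.ext_iff]
    simp only [Φ, Subgroup.coe_mul, InvMemClass.coe_inv]
    generalize (o : Subgroup.centralizer ({t} : Set G)) = p
    generalize (o' : Subgroup.centralizer ({t} : Set G)) = q
    constructor
    · intro h
      calc p⁻¹ * q * a = p⁻¹ * (q * a * q⁻¹) * q := by group
        _ = p⁻¹ * (p * a * p⁻¹) * q := by rw [h]
        _ = _ := by group
    · intro h
      calc p * a * p⁻¹ = p * (a * (p⁻¹ * q)) * q⁻¹ := by group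
        _ = p * (p⁻¹ * q * a) * q⁻¹ := by rw [h]
        _ = _ := by group
  let Ψ : φ.ker ⧸ Cc → {h : Subgroup.centralizer ({t} : Set G) //
      h * h = 1 ∧ P.sg h = P.sg a ∧ P.proj h = P.proj a} :=
    Quotient.lift Φ fun o o' h => (hfib o o').2 (QuotientGroup.leftRel_apply.1 h)
  have hΨ : Function.Bijective Ψ := ⟨by
    rintro ⟨o⟩ ⟨o'⟩ h
    exact Quotient.sound (QuotientGroup.leftRel_apply.2 ((hfib o o').1 h)), fun y => by
    obtain ⟨o, rfl⟩ := hsurj y
    exact ⟨Quotient.mk'' o, rfl⟩⟩
  rw [hC, ← Nat.card_eq_of_bijective Ψ hΨ, mul_comm]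
  exact Cc.card_mul_index

end Proj

end CfsgLib.JankoThompson
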