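import Mathlib

/-!
# Three integral columns of norm four with mutual products two

The three columns of the principal block on the section of an involution: they have Gram matrix
`4, 2, 2 / 2, 4, 2 / 2, 2, 4`, the first one has the entry one at a distinguished place where the
other two vanish, and all three are orthogonal to a column without zero entries.  Only two
configurations remain.
-/

set_option autoImplicit false
set_option linter.unusedSectionVars false

namespace CfsgLib.JankoThompson.Shape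

open scoped Classical

variable {ι : Type*} [Fintype ι]

theorem abs_le_two {a : ℤ} (h : a ^ 2 ≤ 4) : -2 ≤ a ∧ a ≤ 2 :=
  ⟨by nlinarith, by nlinarith⟩

theorem triple_two {a b c : ℤ} (hsum : a + b + c = 2) (hsq : a ^ 2 + b ^ 2 + c ^ 2 ≤ 4) :
    (a = 1 ∧ b = 1 ∧ c = 0) ∨ (a = 1 ∧ b = 0 ∧ c = 1) ∨ (a = 0 ∧ b = 1 ∧ c = 1) ∨
      (a = 2 ∧ b = 0 ∧ c = 0) ∨ (a = 0 ∧ b = 2 ∧ c = 0) ∨ (a = 0 ∧ b = 0 ∧ c = 2) := by
  obtain ⟨a1, a2⟩ := abs_le_two (a := a) (by nlinarith)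
  obtain ⟨b1, b2⟩ := abs_le_two (a := b) (by nlinarith)
  obtain ⟨c1, c2⟩ := abs_le_two (a := c) (by nlinarith)
  obtain rfl : c = 2 - a - b := by linarith
  interval_cases a <;> interval_cases b <;> norm_num at *

/-- A column with entries of absolute value at most one, outside a given set. -/
theorem exists_two {T : Finset ι} {x : ι → ℤ} (h : ∑ i ∈ T, x i ^ 2 = 2) :
    ∃ j k, j ≠ k ∧ j ∈ T ∧ k ∈ T ∧ (x j = 1 ∨ x j = -1) ∧ (x k = 1 ∨ x k = -1) ∧
      ∀ i ∈ T, i ≠ j → i ≠ k → x i = 0 := by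
  have hval : ∀ i ∈ T, x i = 0 ∨ x i = 1 ∨ x i = -1 := fun i hi => by
    have h1 : x i ^ 2 ≤ 2 := h ▸ Finset.single_le_sum (fun j _ => sq_nonneg (x j)) hi
    have h2 : x i ≤ 1 := by nlinarith
    have h3 : -1 ≤ x i := by nlinarith
    omega
  have hsq : ∀ i ∈ T, x i ^ 2 = if x i ≠ 0 then 1 else 0 := fun i hi => by
    rcases hval i hi with e | e | e <;> simp [e]
  rw [Finset.sum_congr rfl hsq, Finset.sum_boole] at h
  obtain ⟨j, k, hjk, e⟩ := Finset.card_eq_two.1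
    (show (T.filter fun i => x i ≠ 0).card = 2 by exact_mod_cast h)
  have hm : ∀ i, (i ∈ T ∧ x i ≠ 0) ↔ (i = j ∨ i = k) := fun i => by
    rw [← Finset.mem_filter (p := fun i => x i ≠ 0), e]; simp
  obtain ⟨hj, hj'⟩ := (hm j).2 (Or.inl rfl)
  obtain ⟨hk, hk'⟩ := (hm k).2 (Or.inr rfl)
  refine ⟨j, k, hjk, hj, hk, (hval j hj).resolve_left hj', (hval k hk).resolve_left hk',
    fun i hi h1 h2 => ?_⟩
  by_contra h0
  rcases (hm i).1 ⟨hi, h0⟩ with r | r
  · exact h1 r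
  · exact h2 r

theorem sq_pm {e : ℤ} (h : e = 1 ∨ e = -1) : e * e = 1 := by rcases h with h | h <;> simp [h]

theorem ne_zero_pm {e : ℤ} (h : e = 1 ∨ e = -1) : e ≠ 0 := by omega

/-- The support of a column on the three places and outside. -/
theorem exists_column {o : ι} {R : Fin 3 → ι} (hR : Function.Injective R) (hRo : ∀ i, R i ≠ o)
    {x y D : ι → ℤ} (hy : ∀ i, y (R i) = 1 ∨ y (R i) = -1)
    (hy0 : ∀ i, i ≠ o → (∀ j, i ≠ R j) → y i = 0) (hxo : x o = 0)
    (hsum : ∑ i, x i * y i = 2) (hsq : ∑ i, x i ^ 2 = 4) (hD : ∀ i, D i ≠ 0)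
    (hperp : ∑ i, x i * D i = 0) :
    ∃ (z : Fin 3) (j k : ι), j ≠ k ∧ j ≠ o ∧ k ≠ o ∧ (∀ i, j ≠ R i) ∧ (∀ i, k ≠ R i) ∧
      (x j = 1 ∨ x j = -1) ∧ (x k = 1 ∨ x k = -1) ∧ x (R z) = 0 ∧
      (∀ i, i ≠ z → x (R i) = y (R i)) ∧
      ∀ i, i ≠ o → (∀ l, i ≠ R l) → i ≠ j → i ≠ k → x i = 0 := by
  set T := Finset.univ \ insert o (Finset.univ.image R) with hT
  have hmT : ∀ i, i ∈ T ↔ i ≠ o ∧ ∀ l, i ≠ R l := fun i => by
    simp [hT, eq_comm]
  have hno : o ∉ Finset.univ.image R := by simpa using fun i => hRo i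
  have split : ∀ g : ι → ℤ, ∑ i, g i = g o + (g (R 0) + g (R 1) + g (R 2)) + ∑ i ∈ T, g i := by
    intro g
    rw [hT, ← Finset.sum_sdiff (Finset.subset_univ (insert o (Finset.univ.image R))),
      Finset.sum_insert hno, Finset.sum_image fun a _ b _ e => hR e, Fin.sum_univ_three]
    ring
  have hTy : ∑ i ∈ T, x i * y i = 0 := Finset.sum_eq_zero fun i hi => by
    rw [hy0 i ((hmT i).1 hi).1 ((hmT i).1 hi).2, mul_zero]
  rw [split, hTy, hxo] at hsum
  rw [split, hxo] at hsq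
  rw [split, hxo] at hperp
  have hx : ∀ i, x (R i) ^ 2 = (x (R i) * y (R i)) ^ 2 := fun i => by
    rw [mul_pow, pow_two (y (R i)), sq_pm (hy i), mul_one]
  have hTn : 0 ≤ ∑ i ∈ T, x i ^ 2 := Finset.sum_nonneg fun _ _ => sq_nonneg _
  have hback : ∀ i, x (R i) = x (R i) * y (R i) * y (R i) := fun i => by
    rw [mul_assoc, sq_pm (hy i), mul_one]
  have key := triple_two (a := x (R 0) * y (R 0)) (b := x (R 1) * y (R 1)) (c := x (R 2) * y (R 2))
    (by linarith) (by rw [← hx, ← hx, ← hx]; linarith)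
  have single : ∀ i : Fin 3, x (R i) * y (R i) = 2 → (∀ l, l ≠ i → x (R l) = 0) →
      (∀ l ∈ T, x l = 0) → False := by
    intro i hi hl hT0
    rw [Finset.sum_eq_zero fun l hl' => by rw [hT0 l hl', zero_mul]] at hperp
    have hne : x (R i) ≠ 0 := fun e => by rw [e, zero_mul] at hi; omega
    have h3 : ∑ l, x (R l) * D (R l) = 0 := by rw [Fin.sum_univ_three]; linarith
    rw [Finset.sum_eq_single i (fun l _ hl' => by rw [hl l hl', zero_mul]) (by simp)] at h3
    exact (mul_eq_zero.1 h3).elim hne (hD _)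
  have finish : ∀ z : Fin 3, x (R z) = 0 → (∀ i, i ≠ z → x (R i) * y (R i) = 1) →
      ∃ (z : Fin 3) (j k : ι), j ≠ k ∧ j ≠ o ∧ k ≠ o ∧ (∀ i, j ≠ R i) ∧ (∀ i, k ≠ R i) ∧
        (x j = 1 ∨ x j = -1) ∧ (x k = 1 ∨ x k = -1) ∧ x (R z) = 0 ∧
        (∀ i, i ≠ z → x (R i) = y (R i)) ∧
        ∀ i, i ≠ o → (∀ l, i ≠ R l) → i ≠ j → i ≠ k → x i = 0 := by
    intro z hz h1
    have h2 : ∀ i, i ≠ z → x (R i) = y (R i) := fun i hi => by rw [hback, h1 i hi, one_mul]
    have hsum2 : ∑ i ∈ T, x i ^ 2 = 2 := by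
      have h3 : ∑ l, (x (R l) * y (R l)) ^ 2 = 2 := by
        rw [Finset.sum_congr rfl (g := fun l => if l = z then (0 : ℤ) else 1) fun l _ => ?_]
        · exact (by decide : ∀ z : Fin 3, (∑ l : Fin 3, if l = z then (0 : ℤ) else 1) = 2) z
        · split_ifs with e
          · rw [e, hz, zero_mul, zero_pow two_ne_zero]
          · rw [h1 l e, one_pow]
      rw [Fin.sum_univ_three, ← hx, ← hx, ← hx] at h3
      linarith
    obtain ⟨j, k, hjk, hj, hk, hj', hk', h0⟩ := exists_two hsum2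
    exact ⟨z, j, k, hjk, ((hmT j).1 hj).1, ((hmT k).1 hk).1, ((hmT j).1 hj).2, ((hmT k).1 hk).2,
      hj', hk', hz, h2, fun i a b c d => h0 i ((hmT i).2 ⟨a, b⟩) c d⟩
  have big : ∀ i : Fin 3, x (R i) * y (R i) = 2 → (∀ l, l ≠ i → x (R l) * y (R l) = 0) → False := by
    intro i hi hl
    refine single i hi (fun l hl' => by rw [hback, hl l hl', zero_mul]) fun l hl' => ?_
    have h0 : ∑ i ∈ T, x i ^ 2 = 0 := by
      have h3 : ∑ l, (x (R l) * y (R l)) ^ 2 = 4 := by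
        rw [Finset.sum_eq_single i (fun l _ e => by rw [hl l e, zero_pow two_ne_zero]) (by simp), hi]
        norm_num
      rw [Fin.sum_univ_three, ← hx, ← hx, ← hx] at h3
      linarith
    exact pow_eq_zero_iff two_ne_zero |>.1
      ((Finset.sum_eq_zero_iff_of_nonneg fun _ _ => sq_nonneg _).1 h0 l hl')
  have three : ∀ i : Fin 3, i = 0 ∨ i = 1 ∨ i = 2 := by decide
  rcases key with ⟨a, b, c⟩ | ⟨a, b, c⟩ | ⟨a, b, c⟩ | ⟨a, b, c⟩ | ⟨a, b, c⟩ | ⟨a, b, c⟩
  · exact finish 2 (by rw [hback, c, zero_mul]) (fun i hi => by rcases three i with rfl | rfl | rfl <;> first | exact absurd rfl hi | assumption)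
  · exact finish 1 (by rw [hback, b, zero_mul]) (fun i hi => by rcases three i with rfl | rfl | rfl <;> first | exact absurd rfl hi | assumption)
  · exact finish 0 (by rw [hback, a, zero_mul]) (fun i hi => by rcases three i with rfl | rfl | rfl <;> first | exact absurd rfl hi | assumption)
  · exact absurd (fun i hi => by rcases three i with rfl | rfl | rfl <;> first | exact absurd rfl hi | assumption) (big 0 a)
  · exact absurd (fun i hi => by rcases three i with rfl | rfl | rfl <;> first | exact absurd rfl hi | assumption) (big 1 b)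
  · exact absurd (fun i hi => by rcases three i with rfl | rfl | rfl <;> first | exact absurd rfl hi | assumption) (big 2 c)

/-- The expansions of the three columns. -/
def IsStd (o : ι) (x₀ x₁ x₂ : ι → ℤ) (f : Fin 7 → ι) (e : Fin 7 → ℤ) : Prop :=
  Function.Injective f ∧ (∀ k, f k ≠ o ∧ (e k = 1 ∨ e k = -1)) ∧
    (∀ F : ι → ℂ, ∑ i, (x₀ i : ℂ) * F i =
      F o + (e 0 : ℂ) * F (f 0) + (e 1 : ℂ) * F (f 1) + (e 2 : ℂ) * F (f 2)) ∧
    (∀ F : ι → ℂ, ∑ i, (x₁ i : ℂ) * F i =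
      (e 0 : ℂ) * F (f 0) + (e 1 : ℂ) * F (f 1) + (e 3 : ℂ) * F (f 3) + (e 4 : ℂ) * F (f 4)) ∧
    (∀ F : ι → ℂ, ∑ i, (x₂ i : ℂ) * F i =
      (e 0 : ℂ) * F (f 0) + (e 1 : ℂ) * F (f 1) + (e 5 : ℂ) * F (f 5) + (e 6 : ℂ) * F (f 6))

/-- The configuration with seven rows. -/
def IsSeven (o : ι) (x₀ x₁ x₂ : ι → ℤ) (f : Fin 6 → ι) (e : Fin 6 → ℤ) : Prop :=
  Function.Injective f ∧ (∀ k, f k ≠ o ∧ (e k = 1 ∨ e k = -1)) ∧
    (∀ F : ι → ℂ, ∑ i, (x₀ i : ℂ) * F i =
      F o + (e 0 : ℂ) * F (f 0) + (e 1 : ℂ) * F (f 1) + (e 2 : ℂ) * F (f 2)) ∧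
    (∀ F : ι → ℂ, ∑ i, (x₁ i : ℂ) * F i =
      (e 0 : ℂ) * F (f 0) + (e 1 : ℂ) * F (f 1) + (e 3 : ℂ) * F (f 3) + (e 4 : ℂ) * F (f 4)) ∧
    (∀ F : ι → ℂ, ∑ i, (x₂ i : ℂ) * F i =
      (e 0 : ℂ) * F (f 0) + (e 2 : ℂ) * F (f 2) + (e 3 : ℂ) * F (f 3) + (e 5 : ℂ) * F (f 5))

theorem expand_four {x : ι → ℤ} {p q r s : ι} (hpq : p ≠ q) (hpr : p ≠ r) (hps : p ≠ s)
    (hqr : q ≠ r) (hqs : q ≠ s) (hrs : r ≠ s)
    (h0 : ∀ i, i ≠ p → i ≠ q → i ≠ r → i ≠ s → x i = 0) (F : ι → ℂ) :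
    ∑ i, (x i : ℂ) * F i =
      (x p : ℂ) * F p + (x q : ℂ) * F q + (x r : ℂ) * F r + (x s : ℂ) * F s := by
  rw [← Finset.sum_subset (Finset.subset_univ ({p, q, r, s} : Finset ι)) fun i _ hi => by
    simp only [Finset.mem_insert, Finset.mem_singleton, not_or] at hi
    rw [h0 i hi.1 hi.2.1 hi.2.2.1 hi.2.2.2]; simp]
  rw [Finset.sum_insert (by simp [hpq, hpr, hps]), Finset.sum_insert (by simp [hqr, hqs]),
    Finset.sum_pair hrs]
  ring

theorem sum_four {g : ι → ℤ} {p q r s : ι} (hpq : p ≠ q) (hpr : p ≠ r) (hps : p ≠ s)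
    (hqr : q ≠ r) (hqs : q ≠ s) (hrs : r ≠ s)
    (h0 : ∀ i, i ≠ p → i ≠ q → i ≠ r → i ≠ s → g i = 0) :
    ∑ i, g i = g p + g q + g r + g s := by
  have h := expand_four hpq hpr hps hqr hqs hrs h0 fun _ => 1
  simp only [mul_one] at h
  exact_mod_cast h

/-- The three columns form one of two configurations. -/
theorem gram_shape {o : ι} {x₀ x₁ x₂ D : ι → ℤ} (h0o : x₀ o = 1) (h1o : x₁ o = 0)
    (h2o : x₂ o = 0) (n0 : ∑ i, x₀ i ^ 2 = 4) (n1 : ∑ i, x₁ i ^ 2 = 4) (n2 : ∑ i, x₂ i ^ 2 = 4)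
    (h01 : ∑ i, x₁ i * x₀ i = 2) (h02 : ∑ i, x₂ i * x₀ i = 2) (h12 : ∑ i, x₁ i * x₂ i = 2)
    (hD : ∀ i, D i ≠ 0) (p1 : ∑ i, x₁ i * D i = 0) (p2 : ∑ i, x₂ i * D i = 0) :
    (∃ f e, IsStd o x₀ x₁ x₂ f e) ∨ (∃ f e, IsSeven o x₀ x₁ x₂ f e) := by
  -- the first column
  set S := Finset.univ.erase o with hS
  have hn : ∑ i ∈ S, x₀ i ^ 2 = 3 := by
    rw [← Finset.sum_erase_add _ _ (Finset.mem_univ o), h0o] at n0
    linarith
  have hval : ∀ i ∈ S, x₀ i = 0 ∨ x₀ i = 1 ∨ x₀ i = -1 := fun i hi => by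
    have h1 : x₀ i ^ 2 ≤ 3 := hn ▸ Finset.single_le_sum (fun j _ => sq_nonneg (x₀ j)) hi
    have h2 : x₀ i ≤ 1 := by nlinarith
    have h3 : -1 ≤ x₀ i := by nlinarith
    omega
  have hc : (S.filter fun i => x₀ i ≠ 0).card = 3 := by
    rw [Finset.sum_congr rfl (g := fun i => if x₀ i ≠ 0 then (1 : ℤ) else 0) fun i hi => by
      rcases hval i hi with e | e | e <;> simp [e], Finset.sum_boole] at hn
    exact_mod_cast hn
  obtain ⟨r₀, r₁, r₂, a01, a02, a12, hR⟩ := Finset.card_eq_three.1 hc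
  set R : Fin 3 → ι := ![r₀, r₁, r₂] with hRdef
  have hm : ∀ i, (i ≠ o ∧ x₀ i ≠ 0) ↔ ∃ l, i = R l := fun i => by
    have := congrArg (fun t : Finset ι => i ∈ t) hR
    simp only [S, Finset.mem_filter, Finset.mem_erase, Finset.mem_univ, and_true,
      Finset.mem_insert, Finset.mem_singleton, eq_iff_iff] at this
    rw [this]
    simp [hRdef, Fin.exists_fin_succ]
  have hRinj : Function.Injective R := by
    intro i j
    fin_cases i <;> fin_cases j <;> simp [hRdef, a01, a02, a12, a01.symm, a02.symm, a12.symm]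
  have hRo : ∀ l, R l ≠ o := fun l => ((hm _).2 ⟨l, rfl⟩).1
  have hy : ∀ l, x₀ (R l) = 1 ∨ x₀ (R l) = -1 := fun l =>
    (hval _ (Finset.mem_erase.2 ⟨hRo l, Finset.mem_univ _⟩)).resolve_left ((hm _).2 ⟨l, rfl⟩).2
  have hy0 : ∀ i, i ≠ o → (∀ l, i ≠ R l) → x₀ i = 0 := fun i hi hl => by
    by_contra h
    obtain ⟨l, hl'⟩ := (hm i).1 ⟨hi, h⟩
    exact hl l hl'
  obtain ⟨z, j, k, hjk, hjo, hko, hjR, hkR, ej, ek, xz, xR, x0⟩ :=
    exists_column hRinj hRo hy hy0 h1o h01 n1 hD p1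
  obtain ⟨z', j', k', hjk', hjo', hko', hjR', hkR', ej', ek', xz', xR', x0'⟩ :=
    exists_column hRinj hRo hy hy0 h2o h02 n2 hD p2
  -- the common part
  have third : ∀ a b : Fin 3, ∃ c, c ≠ a ∧ c ≠ b := by decide
  have other : ∀ a : Fin 3, ∃ b c, b ≠ a ∧ c ≠ a ∧ b ≠ c ∧ ∀ d, d = a ∨ d = b ∨ d = c := by decide
  obtain ⟨u, w, hu, hw, huw, hall⟩ := other z
  have eR : ∀ {a b}, a ≠ b → R a ≠ R b := fun h e => h (hRinj e)
  have supp1 : ∀ i, i ≠ R u → i ≠ R w → i ≠ j → i ≠ k → x₁ i = 0 := by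
    intro i a b c d
    by_cases hio : i = o
    · rw [hio, h1o]
    by_cases hl : ∃ l, i = R l
    · obtain ⟨l, rfl⟩ := hl
      rcases hall l with rfl | rfl | rfl
      exacts [xz, absurd rfl a, absurd rfl b]
    · exact x0 i hio (fun l e => hl ⟨l, e⟩) c d
  have p1' := sum_four (g := fun i => x₁ i * D i) (eR huw) (hjR u).symm (hkR u).symm (hjR w).symm
    (hkR w).symm hjk fun i a b c d => by rw [supp1 i a b c d, zero_mul]
  rw [p1, xR u hu, xR w hw] at p1'
  have h12' := sum_four (g := fun i => x₁ i * x₂ i) (eR huw) (hjR u).symm (hkR u).symm (hjR w).symm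
    (hkR w).symm hjk fun i a b c d => by rw [supp1 i a b c d, zero_mul]
  rw [h12, xR u hu, xR w hw] at h12'
  have x2out : ∀ i, i ≠ o → (∀ l, i ≠ R l) →
      (i = j' ∨ i = k' ∨ x₂ i = 0) := fun i a b => by
    by_cases c : i = j'
    · exact Or.inl c
    by_cases d : i = k'
    · exact Or.inr (Or.inl d)
    exact Or.inr (Or.inr (x0' i a b c d))
  by_cases hzz : z = z'
  · subst hzz
    rw [xR' u hu, xR' w hw, sq_pm (hy u), sq_pm (hy w)] at h12'
    -- the places outside are different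
    have hout : x₂ j = 0 ∧ x₂ k = 0 := by
      have hj2 : x₂ j = 0 ∨ x₂ j = 1 ∨ x₂ j = -1 := by
        rcases x2out j hjo hjR with e | e | e
        · exact Or.inr (e ▸ ej')
        · exact Or.inr (e ▸ ek')
        · exact Or.inl e
      by_cases hj0 : x₂ j = 0
      · refine ⟨hj0, ?_⟩
        rw [hj0, mul_zero] at h12'
        have h0 : x₁ k * x₂ k = 0 := by linarith
        exact (mul_eq_zero.1 h0).resolve_left (ne_zero_pm ek)
      exfalso
      have hk0 : x₂ k ≠ 0 := fun h => by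
        rw [h, mul_zero] at h12'
        have h0 : x₁ j * x₂ j = 0 := by linarith
        exact hj0 ((mul_eq_zero.1 h0).resolve_left (ne_zero_pm ej))
      have supp2 : ∀ i, i ≠ R u → i ≠ R w → i ≠ j → i ≠ k → x₂ i = 0 := by
        intro i a b c d
        by_cases hio : i = o
        · rw [hio, h2o]
        by_cases hl : ∃ l, i = R l
        · obtain ⟨l, rfl⟩ := hl
          rcases hall l with rfl | rfl | rfl
          exacts [xz', absurd rfl a, absurd rfl b]
        · have hjk2 : ({j, k} : Finset ι) = {j', k'} := by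
            refine Finset.eq_of_subset_of_card_le ?_
              (by rw [Finset.card_pair hjk, Finset.card_pair hjk'])
            intro l hl
            rcases Finset.mem_insert.1 hl with hlj | hl
            · rw [hlj]
              rcases x2out j hjo hjR with e | e | e
              · simp [e]
              · simp [e]
              · exact absurd e hj0
            · rw [Finset.mem_singleton] at hl
              rw [hl]
              rcases x2out k hko hkR with e | e | e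
              · simp [e]
              · simp [e]
              · exact absurd e hk0
          refine x0' i hio (fun l e => hl ⟨l, e⟩) (fun e => ?_) fun e => ?_
          · have : i ∈ ({j, k} : Finset ι) := hjk2 ▸ by simp [e]
            simp [c, d] at this
          · have : i ∈ ({j, k} : Finset ι) := hjk2 ▸ by simp [e]
            simp [c, d] at this
      have p2' := sum_four (g := fun i => x₂ i * D i) (eR huw) (hjR u).symm (hkR u).symm
        (hjR w).symm (hkR w).symm hjk fun i a b c d => by rw [supp2 i a b c d, zero_mul]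
      rw [p2, xR' u hu, xR' w hw] at p2'
      have hk2 : x₂ k = 1 ∨ x₂ k = -1 := by
        rcases x2out k hko hkR with e | e | e
        · exact e ▸ ej'
        · exact e ▸ ek'
        · exact absurd e hk0
      have hj2' := hj2.resolve_left hj0
      rcases ej with a | a <;> rcases ek with b | b <;> rcases hj2' with c | c <;>
        rcases hk2 with d | d <;> rw [a, b, c, d] at h12' <;> rw [a, b] at p1' <;>
        rw [c, d] at p2' <;>
        first | omega | exact hD j (by linarith) | exact hD k (by linarith)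
    have d1 : j ≠ j' := fun e => ne_zero_pm ej' (e ▸ hout.1)
    have d2 : j ≠ k' := fun e => ne_zero_pm ek' (e ▸ hout.1)
    have d3 : k ≠ j' := fun e => ne_zero_pm ej' (e ▸ hout.2)
    have d4 : k ≠ k' := fun e => ne_zero_pm ek' (e ▸ hout.2)
    refine Or.inl ⟨![R u, R w, R z, j, k, j', k'],
      ![x₀ (R u), x₀ (R w), x₀ (R z), x₁ j, x₁ k, x₂ j', x₂ k'], ?_, ?_, ?_, ?_, ?_⟩
    · intro a b
      fin_cases a <;> fin_cases b <;>
        simp [hjR, hkR, hjR', hkR', fun l => (hjR l).symm, fun l => (hkR l).symm,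
          fun l => (hjR' l).symm, fun l => (hkR' l).symm, eR huw, eR huw.symm, eR hu, eR hu.symm,
          eR hw, eR hw.symm, hjk, hjk.symm, hjk', hjk'.symm, d1, d2, d3, d4, d1.symm, d2.symm,
          d3.symm, d4.symm]
    · intro a
      fin_cases a
      exacts [⟨hRo u, hy u⟩, ⟨hRo w, hy w⟩, ⟨hRo z, hy z⟩, ⟨hjo, ej⟩, ⟨hko, ek⟩, ⟨hjo', ej'⟩,
        ⟨hko', ek'⟩]
    · intro F
      rw [expand_four (hRo u).symm (hRo w).symm (hRo z).symm (eR huw) (eR hu) (eR hw)
        fun i a b c d => hy0 i a fun l e => by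
          subst e
          rcases hall l with rfl | rfl | rfl
          exacts [d rfl, b rfl, c rfl], h0o]
      simp
    · intro F
      rw [expand_four (eR huw) (hjR u).symm (hkR u).symm (hjR w).symm (hkR w).symm hjk supp1,
        xR u hu, xR w hw]
      simp
    · intro F
      rw [expand_four (eR huw) (hjR' u).symm (hkR' u).symm (hjR' w).symm (hkR' w).symm hjk'
        fun i a b c d => ?_, xR' u hu, xR' w hw]
      · simp
      · by_cases hio : i = o
        · rw [hio, h2o]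
        by_cases hl : ∃ l, i = R l
        · obtain ⟨l, rfl⟩ := hl
          rcases hall l with rfl | rfl | rfl
          exacts [xz', absurd rfl a, absurd rfl b]
        · exact x0' i hio (fun l e => hl ⟨l, e⟩) c d
  · obtain ⟨c, hcz, hcz'⟩ := third z z'
    have hcov : ∀ l, l = c ∨ l = z ∨ l = z' := fun l =>
      (by decide : ∀ l c z z' : Fin 3, ¬z = z' → c ≠ z → c ≠ z' → l = c ∨ l = z ∨ l = z')
        l c z z' hzz hcz hcz'
    have hR12 : x₀ (R u) * x₂ (R u) + x₀ (R w) * x₂ (R w) = 1 := by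
      rcases hall z' with e | e | e
      · exact absurd e.symm hzz
      · rw [← e, xz', mul_zero, zero_add, xR' w (by rw [e]; exact huw.symm), sq_pm (hy w)]
      · rw [← e, xz', mul_zero, add_zero, xR' u (by rw [e]; exact huw), sq_pm (hy u)]
    have hjk2 : x₁ j * x₂ j + x₁ k * x₂ k = 1 := by linarith
    -- exactly one common place outside
    have key : ∃ p m n, p ≠ o ∧ m ≠ o ∧ n ≠ o ∧ (∀ l, p ≠ R l) ∧ (∀ l, m ≠ R l) ∧ (∀ l, n ≠ R l) ∧
        p ≠ m ∧ p ≠ n ∧ m ≠ n ∧ (x₁ p = 1 ∨ x₁ p = -1) ∧ (x₁ m = 1 ∨ x₁ m = -1) ∧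
        (x₂ n = 1 ∨ x₂ n = -1) ∧ x₂ p = x₁ p ∧
        (∀ i, i ≠ o → (∀ l, i ≠ R l) → i ≠ p → i ≠ m → x₁ i = 0) ∧
        (∀ i, i ≠ o → (∀ l, i ≠ R l) → i ≠ p → i ≠ n → x₂ i = 0) := by
      have hin : ∀ i, i ≠ o → (∀ l, i ≠ R l) → x₂ i = 0 ∨ x₂ i = 1 ∨ x₂ i = -1 := fun i a b => by
        rcases x2out i a b with e | e | e
        · exact Or.inr (e ▸ ej')
        · exact Or.inr (e ▸ ek')
        · exact Or.inl e
      have hone : (x₂ k = 0 ∧ x₂ j = x₁ j) ∨ (x₂ j = 0 ∧ x₂ k = x₁ k) := by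
        rcases ej with a | a <;> rcases ek with b | b <;> rcases hin j hjo hjR with c | c | c <;>
          rcases hin k hko hkR with d | d | d <;> rw [a, b, c, d] at hjk2 <;> omega
      have build : ∀ p m, p ≠ o → (∀ l, p ≠ R l) → m ≠ o → (∀ l, m ≠ R l) → p ≠ m →
          (x₁ p = 1 ∨ x₁ p = -1) → (x₁ m = 1 ∨ x₁ m = -1) →
          (∀ i, i ≠ o → (∀ l, i ≠ R l) → i ≠ p → i ≠ m → x₁ i = 0) → x₂ m = 0 → x₂ p = x₁ p →
          ∃ p m n, p ≠ o ∧ m ≠ o ∧ n ≠ o ∧ (∀ l, p ≠ R l) ∧ (∀ l, m ≠ R l) ∧ (∀ l, n ≠ R l) ∧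
            p ≠ m ∧ p ≠ n ∧ m ≠ n ∧ (x₁ p = 1 ∨ x₁ p = -1) ∧ (x₁ m = 1 ∨ x₁ m = -1) ∧
            (x₂ n = 1 ∨ x₂ n = -1) ∧ x₂ p = x₁ p ∧
            (∀ i, i ≠ o → (∀ l, i ≠ R l) → i ≠ p → i ≠ m → x₁ i = 0) ∧
            (∀ i, i ≠ o → (∀ l, i ≠ R l) → i ≠ p → i ≠ n → x₂ i = 0) := by
        intro p m hpo hpR hmo hmR hpm ep em hz1 hm0 hp
        rcases x2out p hpo hpR with e | e | e
        · refine ⟨p, m, k', hpo, hmo, hko', hpR, hmR, hkR', hpm, e ▸ hjk',
            fun h => ne_zero_pm ek' (h ▸ hm0), ep, em, ek', hp, hz1, fun i a b c d => ?_⟩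
          exact x0' i a b (e ▸ c) d
        · refine ⟨p, m, j', hpo, hmo, hjo', hpR, hmR, hjR', hpm, e ▸ hjk'.symm,
            fun h => ne_zero_pm ej' (h ▸ hm0), ep, em, ej', hp, hz1, fun i a b c d => ?_⟩
          exact x0' i a b d (e ▸ c)
        · exact absurd (hp.symm.trans e) (ne_zero_pm ep)
      rcases hone with ⟨a, b⟩ | ⟨a, b⟩
      · exact build j k hjo hjR hko hkR hjk ej ek x0 a b
      · exact build k j hko hkR hjo hjR hjk.symm ek ej (fun i a b c d => x0 i a b d c) a b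
    obtain ⟨p, m, n, hpo, hmo, hno, hpR, hmR, hnR, hpm, hpn, hmn, ep, em, en, hp, s1, s2⟩ := key
    refine Or.inr ⟨![R c, R z', R z, p, m, n],
      ![x₀ (R c), x₀ (R z'), x₀ (R z), x₁ p, x₁ m, x₂ n], ?_, ?_, ?_, ?_, ?_⟩
    · intro a b
      fin_cases a <;> fin_cases b <;>
        simp [hpR, hmR, hnR, fun l => (hpR l).symm, fun l => (hmR l).symm, fun l => (hnR l).symm,
          eR hcz, eR (Ne.symm hcz), eR hcz', eR (Ne.symm hcz'), eR hzz, eR (Ne.symm hzz), hpm,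
          hpm.symm, hpn, hpn.symm, hmn, hmn.symm]
    · intro a
      fin_cases a
      exacts [⟨hRo c, hy c⟩, ⟨hRo z', hy z'⟩, ⟨hRo z, hy z⟩, ⟨hpo, ep⟩, ⟨hmo, em⟩, ⟨hno, en⟩]
    · intro F
      rw [expand_four (hRo c).symm (hRo z').symm (hRo z).symm (eR hcz') (eR hcz) (eR (Ne.symm hzz))
        fun i a b c' d => hy0 i a fun l e => by
          subst e
          rcases hcov l with rfl | rfl | rfl
          exacts [b rfl, d rfl, c' rfl], h0o]
      simp
    · intro F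
      rw [expand_four (eR hcz') (hpR c).symm (hmR c).symm (hpR z').symm (hmR z').symm hpm
        fun i a b c' d => ?_, xR c hcz, xR z' (Ne.symm hzz)]
      · simp
      · by_cases hio : i = o
        · rw [hio, h1o]
        by_cases hl : ∃ l, i = R l
        · obtain ⟨l, rfl⟩ := hl
          rcases hcov l with rfl | rfl | rfl
          exacts [absurd rfl a, xz, absurd rfl b]
        · exact s1 i hio (fun l e => hl ⟨l, e⟩) c' d
    · intro F
      rw [expand_four (eR hcz) (hpR c).symm (hnR c).symm (hpR z).symm (hnR z).symm hpn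
        fun i a b c' d => ?_, xR' c hcz', xR' z hzz, hp]
      · simp
      · by_cases hio : i = o
        · rw [hio, h2o]
        by_cases hl : ∃ l, i = R l
        · obtain ⟨l, rfl⟩ := hl
          rcases hcov l with rfl | rfl | rfl
          exacts [absurd rfl a, absurd rfl b, xz']
        · exact s2 i hio (fun l e => hl ⟨l, e⟩) c' d

end CfsgLib.JankoThompson.Shape
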