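import Mathlib
import Cfsg.Prelude.Def_SporadicB
import Cfsg.Prelude.Def_TwoFusion
import Cfsg.Agent.Lib.JankoCent.Main
import Cfsg.Agent.Lib.ClassicalGroups.SmallIso
import Cfsg.Agent.Lib.Involutions.BrauerSuzuki
import Cfsg.Agent.Lib.CITGraph.PSLEven
import Cfsg.Agent.Lib.CoreKill.Applications
import Cfsg.Agent.S3188

/-!
# Centralisers `2 × PSL₂(q)` for `q = 3, 4, 5`

The cases `q = 4, 5` are Janko's theorem (`2 × A₅`).  For `q = 3` all involutions are conjugate, so
all their centralisers are soluble and `G` would be some `PSL₂(F)`, which it is not.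
-/

set_option autoImplicit false
set_option linter.style.haveILetI false

namespace CfsgLib.JankoThompson

open Cfsg

universe u v

/-- Abelian Sylow 2-subgroups make every involution 2-central. -/
theorem twoCentral_of_abelian {G : Type u} [Group G] [Finite G]
    (hab : ∀ P : Sylow 2 G, ∀ a b : P, a * b = b * a) {t : G} (ht : orderOf t = 2) :
    Cfsg.IsTwoCentralInvolution t := by
  have hp : IsPGroup 2 (Subgroup.zpowers t) :=
    IsPGroup.of_card (n := 1) (by rw [Nat.card_zpowers, ht, pow_one])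
  obtain ⟨P, hP⟩ := hp.exists_le_sylow
  have htP : t ∈ P := hP (Subgroup.mem_zpowers t)
  exact ⟨ht, P, htP, fun x hx => congrArg Subtype.val (hab P ⟨x, hx⟩ ⟨t, htP⟩)⟩

/-- The cases `q = 4, 5`. -/
theorem four_five {G : Type u} [Group G] [Finite G] [IsSimpleGroup G]
    (hab : ∀ P : Sylow 2 G, ∀ a b : P, a * b = b * a)
    {F : Type v} [Field F] [Fintype F] (hq : Fintype.card F = 4 ∨ Fintype.card F = 5)
    (t : G) (ht : orderOf t = 2)
    (hC : Nonempty (Subgroup.centralizer ({t} : Set G) ≃*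
      Multiplicative (ZMod 2) × Matrix.ProjectiveSpecialLinearGroup (Fin 2) F)) :
    Cfsg.IsJ1 G := by
  classical
  obtain ⟨e⟩ := hC
  have hA : Nonempty (Matrix.ProjectiveSpecialLinearGroup (Fin 2) F ≃* alternatingGroup (Fin 5)) :=
    hq.elim (fun h => CfsgLib.ClassicalGroups.psl_two_four_alternating h)
      (fun h => CfsgLib.ClassicalGroups.psl_two_five_alternating h)
  obtain ⟨f⟩ := hA
  haveI : Fintype G := Fintype.ofFinite G
  exact ⟨inferInstance, CfsgLib.JankoCent.order_eq ht
    (e.trans ((MulEquiv.refl _).prodCongr f)) (twoCentral_of_abelian hab ht).2⟩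

section Three

/-- `2 × A₄`. -/
abbrev MThree := Multiplicative (ZMod 2) × alternatingGroup (Fin 4)

/-- A three cycle. -/
def cyc : MThree :=
  (1, ⟨Equiv.swap 0 1 * Equiv.swap 1 2, Equiv.Perm.mem_alternatingGroup.2 (by decide)⟩)

/-- A double transposition. -/
def dbl : MThree :=
  (1, ⟨Equiv.swap 0 1 * Equiv.swap 2 3, Equiv.Perm.mem_alternatingGroup.2 (by decide)⟩)

set_option synthInstance.maxSize 1000 in
set_option synthInstance.maxHeartbeats 200000 in
theorem model_facts :
    (Finset.univ.filter fun m : MThree => m * m = 1).card = 8 ∧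
    (∀ m : MThree, m ^ 8 = 1 → m * m = 1) ∧
    (∀ m m' : MThree, m * m = 1 → m' * m' = 1 → m * cyc = cyc * m → m' * cyc = cyc * m' →
      m = 1 ∨ m' = 1 ∨ m = m') ∧ cyc ^ 3 = 1 ∧
    (∀ m : MThree, m * m * m * m * m * m = 1 ∨ m * m * m * m = 1) := by
  refine ⟨?_, ?_, ?_, ?_, ?_⟩ <;> decide +kernel

theorem cyc_dbl_ne : cyc * dbl ≠ dbl * cyc := by decide +kernel

theorem orderOf_six :
    orderOf ((Multiplicative.ofAdd (1 : ZMod 2), cyc.2) : MThree) = 6 := by
  rw [orderOf_eq_iff (by norm_num)]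
  refine ⟨by decide +kernel, fun m hm hm0 => ?_⟩
  interval_cases m <;> decide +kernel

theorem card_MThree : Nat.card MThree = 24 := by
  rw [Nat.card_eq_fintype_card]; decide +kernel

theorem solvable_MThree : Group.IsSolvable MThree := by
  have hA : Group.IsSolvable (alternatingGroup (Fin 4)) := by
    have h4 : Nat.card (Fin 4) = 4 := Nat.card_fin 4
    haveI := alternatingGroup.normal_kleinFour h4
    haveI := alternatingGroup.kleinFour_isKleinFour h4
    have hq : Nat.card (alternatingGroup (Fin 4) ⧸ alternatingGroup.kleinFour (Fin 4)) = 3 := by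
      have h := Subgroup.card_eq_card_quotient_mul_card_subgroup
        (alternatingGroup.kleinFour (Fin 4))
      rw [alternatingGroup.card_of_card_eq_four h4,
        alternatingGroup.kleinFour_card_of_card_eq_four h4] at h
      omega
    haveI : Fact (Nat.Prime 3) := ⟨Nat.prime_three⟩
    haveI := isCyclic_of_prime_card hq
    exact (Group.isSolvable_iff_subgroup_quotient (alternatingGroup.kleinFour (Fin 4))).2
      ⟨Group.isSolvable_of_comm IsKleinFour.isMulCommutative.is_comm.comm,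
        Group.isSolvable_of_comm IsMulCommutative.is_comm.comm⟩
  infer_instance

variable {G : Type u} [Group G] [Finite G]

variable {t : G} (e : Subgroup.centralizer ({t} : Set G) ≃* MThree)

include e

/-- A Sylow subgroup through `t` is the set of elements of order at most two commuting with `t`. -/
theorem sylow_eq (hab : ∀ P : Sylow 2 G, ∀ a b : P, a * b = b * a) {P : Sylow 2 G} (htP : t ∈ P) :
    Nat.card (P : Subgroup G) = 8 ∧ ∀ x : G, x ∈ P ↔ x * x = 1 ∧ x * t = t * x := by
  classical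
  haveI : Fact (Nat.Prime 2) := ⟨Nat.prime_two⟩
  obtain ⟨h8, hsq, -⟩ := model_facts
  have hle : (P : Subgroup G) ≤ Subgroup.centralizer ({t} : Set G) := fun x hx =>
    Subgroup.mem_centralizer_singleton_iff.2 (congrArg Subtype.val (hab P ⟨x, hx⟩ ⟨t, htP⟩))
  have hc24 : Nat.card (Subgroup.centralizer ({t} : Set G)) = 24 := by
    rw [Nat.card_congr e.toEquiv, card_MThree]
  have h24 : Nat.card (P : Subgroup G) ∣ 24 := hc24 ▸ Subgroup.card_dvd_of_le hle
  obtain ⟨n, hn⟩ := IsPGroup.iff_card.1 P.isPGroup'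
  have hcard : Nat.card (P : Subgroup G) = 8 := by
    have h8G : 8 ∣ Nat.card G :=
      (show 8 ∣ 24 by norm_num).trans (hc24 ▸ Subgroup.card_subgroup_dvd_card _)
    have h1 : 2 ^ 3 ∣ 2 ^ n := by
      have := P.pow_dvd_card_of_pow_dvd_card (n := 3) (by simpa using h8G)
      rwa [hn] at this
    have h2 : 3 ≤ n := (Nat.pow_dvd_pow_iff_le_right (by norm_num)).1 h1
    have h3 : 2 ^ n ∣ 8 := by
      have h' : 2 ^ n ∣ 3 * 8 := by rw [← hn]; simpa using h24
      exact (Nat.Coprime.pow_left n (by norm_num : Nat.Coprime 2 3)).dvd_of_dvd_mul_left h'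
    have := Nat.le_of_dvd (by norm_num) h3
    have : 2 ^ n ≥ 8 := (Nat.pow_le_pow_right (by norm_num) h2 : 2 ^ 3 ≤ 2 ^ n)
    omega
  have hfw : ∀ x : G, x ∈ P → x * x = 1 ∧ x * t = t * x := by
    intro x hx
    refine ⟨?_, congrArg Subtype.val (hab P ⟨x, hx⟩ ⟨t, htP⟩)⟩
    have hxC := hle hx
    have h : (⟨x, hxC⟩ : Subgroup.centralizer ({t} : Set G)) ^ 8 = 1 := by
      apply Subtype.ext
      have h' : (⟨x, hx⟩ : (P : Subgroup G)) ^ 8 = 1 := by
        rw [← hcard]; exact pow_card_eq_one'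
      simpa using congrArg Subtype.val h'
    have h2 := hsq (e ⟨x, hxC⟩) (by rw [← map_pow, h, map_one])
    rw [← map_mul, MulEquiv.map_eq_one_iff] at h2
    exact congrArg Subtype.val h2
  refine ⟨hcard, fun x => ⟨hfw x, ?_⟩⟩
  rintro ⟨hx2, hxt⟩
  by_contra hx
  -- the set of such elements has eight members, all in `P`
  let Φ : {y : G // y * y = 1 ∧ y * t = t * y} → {m : MThree // m * m = 1} := fun y =>
    ⟨e ⟨y.1, Subgroup.mem_centralizer_singleton_iff.2 y.2.2⟩, by
      rw [← map_mul, MulEquiv.map_eq_one_iff]; exact Subtype.ext y.2.1⟩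
  have hΦ : Function.Injective Φ := fun a b h => by
    have := e.injective (congrArg Subtype.val h)
    exact Subtype.ext (Subtype.mk_eq_mk.1 this)
  have hle8 : Nat.card {y : G // y * y = 1 ∧ y * t = t * y} ≤ 8 := by
    refine (Nat.card_le_card_of_injective Φ hΦ).trans ?_
    rw [Nat.card_eq_fintype_card, Fintype.card_subtype, h8]
  let j : Option (P : Subgroup G) → {y : G // y * y = 1 ∧ y * t = t * y} := fun o =>
    o.elim ⟨x, hx2, hxt⟩ fun p => ⟨p.1, hfw p.1 p.2⟩
  have hj : Function.Injective j := by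
    rintro (_ | p) (_ | p') h
    · rfl
    · have h' : x = p'.1 := congrArg Subtype.val h
      exact (hx (by rw [h']; exact p'.2)).elim
    · have h' : p.1 = x := congrArg Subtype.val h
      exact (hx (by rw [← h']; exact p.2)).elim
    · exact congrArg some (Subtype.ext (congrArg Subtype.val h :))
  have := (Nat.card_le_card_of_injective j hj).trans hle8
  rw [Finite.card_option, hcard] at this
  omega

/-- All involutions are conjugate to `t`. -/
theorem isConj_of_involution [IsSimpleGroup G]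
    (hab : ∀ P : Sylow 2 G, ∀ a b : P, a * b = b * a) (ht : orderOf t = 2) {u : G}
    (hu : orderOf u = 2) : IsConj t u := by
  classical
  haveI : Fact (Nat.Prime 2) := ⟨Nat.prime_two⟩
  obtain ⟨-, -, hfix, hc3, -⟩ := model_facts
  obtain ⟨-, P, htP, htc⟩ := twoCentral_of_abelian hab ht
  obtain ⟨hcard, hmem⟩ := sylow_eq e hab htP
  set N : Subgroup G := Subgroup.normalizer ((P : Subgroup G) : Set G) with hN
  let S : Set G := {w | ∃ n ∈ N, n * t * n⁻¹ = w}
  let U : Set G := {w | w ∈ P ∧ w ≠ 1}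
  have ht1 : t ≠ 1 := fun h => by simp [h] at ht
  have hSU : S ⊆ U := by
    rintro w ⟨n, hn, rfl⟩
    refine ⟨(Subgroup.mem_normalizer_iff.1 hn t).1 htP, fun h => ht1 ?_⟩
    exact conj_eq_one_iff.1 h
  have hU : U.ncard = 7 := by
    have h1 : U = ((P : Subgroup G) : Set G) \ {1} := by ext; simp [U]
    rw [h1, Set.ncard_sdiff_singleton_of_mem (one_mem _), ← Nat.card_coe_set_eq]
    exact congrArg (· - 1) hcard
  -- the orbit has odd length
  have hodd : ¬ 2 ∣ S.ncard := by
    let K : Subgroup N := (Subgroup.centralizer ({t} : Set G)).subgroupOf N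
    have hbij : Nat.card (N ⧸ K) = S.ncard := by
      rw [← Nat.card_coe_set_eq]
      refine Nat.card_congr (Equiv.ofBijective
        (Quotient.lift (fun n : N => (⟨(n : G) * t * (n : G)⁻¹, n, n.2, rfl⟩ : S)) ?_) ⟨?_, ?_⟩)
      · intro a b hab'
        have h : ((a : G)⁻¹ * b) * t = t * ((a : G)⁻¹ * b) :=
          Subgroup.mem_centralizer_singleton_iff.1
            (Subgroup.mem_subgroupOf.1 (QuotientGroup.leftRel_apply.1 hab'))
        apply Subtype.ext
        show (a : G) * t * (a : G)⁻¹ = b * t * (b : G)⁻¹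
        calc (a : G) * t * (a : G)⁻¹ = a * (t * ((a : G)⁻¹ * b)) * (b : G)⁻¹ := by group
          _ = a * (((a : G)⁻¹ * b) * t) * (b : G)⁻¹ := by rw [h]
          _ = b * t * (b : G)⁻¹ := by group
      · rintro ⟨a⟩ ⟨b⟩ h
        have h' : (a : G) * t * (a : G)⁻¹ = b * t * (b : G)⁻¹ := congrArg Subtype.val h
        apply Quotient.sound
        apply QuotientGroup.leftRel_apply.2
        rw [Subgroup.mem_subgroupOf, Subgroup.mem_centralizer_singleton_iff]
        show (a : G)⁻¹ * b * t = t * ((a : G)⁻¹ * b)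
        calc (a : G)⁻¹ * b * t = (a : G)⁻¹ * (b * t * (b : G)⁻¹) * b := by group
          _ = (a : G)⁻¹ * (a * t * (a : G)⁻¹) * b := by rw [h']
          _ = t * ((a : G)⁻¹ * b) := by group
      · rintro ⟨w, n, hn, rfl⟩
        exact ⟨QuotientGroup.mk ⟨n, hn⟩, rfl⟩
    intro h2
    have hPN : (P : Subgroup G).subgroupOf N ≤ K := fun x hx =>
      Subgroup.mem_subgroupOf.2 (Subgroup.mem_centralizer_singleton_iff.2
        (htc _ (Subgroup.mem_subgroupOf.1 hx)))
    have h3 : 2 ∣ (P : Subgroup G).index := by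
      have h4 : K.index ∣ ((P : Subgroup G).subgroupOf N).index := Subgroup.index_dvd_of_le hPN
      have h5 : ((P : Subgroup G).subgroupOf N).index ∣ (P : Subgroup G).index :=
        Subgroup.relIndex_dvd_index_of_le Subgroup.le_normalizer
      have h6 : K.index = S.ncard := by rw [Subgroup.index_eq_card, hbij]
      exact (h6 ▸ h2).trans (h4.trans h5)
    exact P.not_dvd_index h3
  -- an element of order three centralising `t` and normalising `P`
  set x : G := ((e.symm cyc : Subgroup.centralizer ({t} : Set G)) : G) with hx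
  have hxt : x * t = t * x := Subgroup.mem_centralizer_singleton_iff.1 (e.symm cyc).2
  have hxP : ∀ w, w ∈ P → x * w * x⁻¹ ∈ P := by
    intro w hw
    obtain ⟨h1, h2⟩ := (hmem w).1 hw
    refine (hmem _).2 ⟨?_, ?_⟩
    · calc x * w * x⁻¹ * (x * w * x⁻¹) = x * (w * w) * x⁻¹ := by group
        _ = 1 := by rw [h1]; group
    · have hxi : x⁻¹ * t = t * x⁻¹ := (show Commute x t from hxt).inv_left.eq
      calc x * w * x⁻¹ * t = x * w * (x⁻¹ * t) := by group
        _ = x * (w * t) * x⁻¹ := by rw [hxi]; group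
        _ = (x * t) * w * x⁻¹ := by rw [h2]; group
        _ = t * (x * w * x⁻¹) := by rw [hxt]; group
  have hxN : x ∈ N := by
    refine Subgroup.mem_normalizer_iff.2 fun w => ⟨hxP w, fun h => ?_⟩
    have h3 : x ^ 3 = 1 := by
      have h0 : (e.symm cyc) ^ 3 = 1 := by rw [← map_pow, hc3, map_one]
      exact congrArg Subtype.val h0
    have h4 := hxP _ (hxP _ h)
    have : x * (x * (x * w * x⁻¹) * x⁻¹) * x⁻¹ = x ^ 3 * w * (x ^ 3)⁻¹ := by
      simp only [pow_succ, pow_zero, one_mul]; group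
    rw [this, h3] at h4
    show w ∈ P
    simpa using h4
  -- the only involution of `P` fixed by `x` is `t`
  have hfix' : ∀ w, w ∈ P → w ≠ 1 → x * w * x⁻¹ = w → w = t := by
    intro w hw hw1 hwx
    obtain ⟨h1, h2⟩ := (hmem w).1 hw
    set cw : Subgroup.centralizer ({t} : Set G) := ⟨w, Subgroup.mem_centralizer_singleton_iff.2 h2⟩
      with hcw
    set ct : Subgroup.centralizer ({t} : Set G) := ⟨t, Subgroup.mem_centralizer_singleton_iff.2 rfl⟩
      with hct
    have hwx' : w * x = x * w := by rw [eq_comm, ← mul_inv_eq_iff_eq_mul]; exact hwx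
    have e1 : cw * cw = 1 := Subtype.ext h1
    have e2 : ct * ct = 1 := Subtype.ext ((hmem t).1 htP).1
    have e3 : cw * e.symm cyc = e.symm cyc * cw := Subtype.ext hwx'
    have e4 : ct * e.symm cyc = e.symm cyc * ct := Subtype.ext hxt.symm
    rcases hfix (e cw) (e ct) (by rw [← map_mul, e1, map_one]) (by rw [← map_mul, e2, map_one])
        (by have := congrArg e e3; simpa using this) (by have := congrArg e e4; simpa using this)
      with h | h | h
    · exact absurd (congrArg Subtype.val ((MulEquiv.map_eq_one_iff e).1 h)) hw1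
    · exact absurd (congrArg Subtype.val ((MulEquiv.map_eq_one_iff e).1 h)) ht1
    · exact congrArg Subtype.val (e.injective h)
  have hSx : ∀ w, w ∈ S → x * w * x⁻¹ ∈ S := by
    rintro w ⟨n, hn, rfl⟩
    exact ⟨x * n, mul_mem hxN hn, by group⟩
  have hSx' : ∀ w, x * w * x⁻¹ ∈ S → w ∈ S := by
    rintro w ⟨n, hn, he⟩
    refine ⟨x⁻¹ * n, mul_mem (inv_mem hxN) hn, ?_⟩
    calc x⁻¹ * n * t * (x⁻¹ * n)⁻¹ = x⁻¹ * (n * t * n⁻¹) * x := by group
      _ = w := by rw [he]; group
  have htS : t ∈ S := ⟨1, one_mem _, by group⟩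
  -- orbits of `x` away from `t` have length three
  have triple : ∀ w, w ∈ U → w ≠ t →
      ({w, x * w * x⁻¹, x * (x * w * x⁻¹) * x⁻¹} : Set G).ncard = 3 := by
    intro w ⟨hw, hw1⟩ hwt
    have h3 : x ^ 3 = 1 := by
      have h0 : (e.symm cyc) ^ 3 = 1 := by rw [← map_pow, hc3, map_one]
      exact congrArg Subtype.val h0
    have hne : x * w * x⁻¹ ≠ w := fun h => hwt (hfix' w hw hw1 h)
    refine Set.ncard_eq_three.2 ⟨_, _, _, Ne.symm hne, ?_, ?_, rfl⟩
    · intro h
      apply hne
      have h' : x ^ 3 * w * (x ^ 3)⁻¹ = x * w * x⁻¹ := by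
        calc x ^ 3 * w * (x ^ 3)⁻¹ = x * (x * (x * w * x⁻¹) * x⁻¹) * x⁻¹ := by
              simp only [pow_succ, pow_zero, one_mul]; group
          _ = x * w * x⁻¹ := by rw [← h]
      rw [h3] at h'
      simpa using h'.symm
    · intro h
      exact hne (mul_left_cancel (mul_right_cancel h.symm))
  by_cases hiso : S = {t}
  · exfalso
    have hisol : Cfsg.IsIsolatedInvolution t := by
      refine ⟨ht, fun g hg => ?_⟩
      have hgP : g * t * g⁻¹ ∈ P := (hmem _).2 ⟨by
        calc g * t * g⁻¹ * (g * t * g⁻¹) = g * (t * t) * g⁻¹ := by group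
          _ = 1 := by rw [((hmem t).1 htP).1]; group, hg.symm.eq⟩
      have hc : ∀ y ∈ (P : Subgroup G), y ∈ Subgroup.centralizer ((P : Subgroup G) : Set G) :=
        fun y hy => Subgroup.mem_centralizer_iff.2 fun z hz =>
          congrArg Subtype.val (hab P ⟨z, hz⟩ ⟨y, hy⟩)
      obtain ⟨n, hn, hne⟩ := P.conj_eq_normalizer_conj_of_mem_centralizer t g⁻¹ (hc t htP)
        (hc _ (show g⁻¹⁻¹ * t * g⁻¹ ∈ (P : Subgroup G) by rw [inv_inv]; exact hgP))
      have hn' : n⁻¹ * t * n ∈ S := ⟨n⁻¹, inv_mem hn, by group⟩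
      rw [hiso] at hn'
      rw [show g * t * g⁻¹ = (g⁻¹)⁻¹ * t * g⁻¹ by rw [inv_inv], hne]
      exact hn'
    have hZ := CfsgLib.Involutions.zstar G t hisol
    have hcore : Cfsg.pPrimeCore 2 G = ⊥ :=
      CfsgLib.CoreKill.oddCore_eq_bot_of_simple ht
    have hcen : t ∈ Subgroup.center G := Subgroup.mem_center_iff.2 fun g => by
      have h1 := hZ g
      rw [hcore, Subgroup.mem_bot, mul_inv_eq_one, mul_inv_eq_iff_eq_mul] at h1
      exact h1
    rcases (Subgroup.center G).normal_of_characteristic.eq_bot_or_eq_top with h | h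
    · rw [h, Subgroup.mem_bot] at hcen; exact ht1 hcen
    · have hall : ∀ a b : G, a * b = b * a := fun a b =>
        Subgroup.mem_center_iff.1 (h ▸ Subgroup.mem_top b) a
      have h1 : e.symm cyc * e.symm dbl = e.symm dbl * e.symm cyc := Subtype.ext (hall _ _)
      rw [← map_mul, ← map_mul] at h1
      exact cyc_dbl_ne (e.symm.injective h1)
  · -- the orbit is everything
    obtain ⟨w, hwS, hwt⟩ : ∃ w ∈ S, w ≠ t := by
      by_contra h
      push Not at h
      exact hiso (Set.eq_singleton_iff_unique_mem.2 ⟨htS, h⟩)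
    have h4 : 4 ≤ S.ncard := by
      have hsub : insert t ({w, x * w * x⁻¹, x * (x * w * x⁻¹) * x⁻¹} : Set G) ⊆ S := by
        rintro y (rfl | rfl | rfl | rfl)
        exacts [htS, hwS, hSx _ hwS, hSx _ (hSx _ hwS)]
      have hnt : t ∉ ({w, x * w * x⁻¹, x * (x * w * x⁻¹) * x⁻¹} : Set G) := by
        have hfx : x * t * x⁻¹ = t := by rw [hxt]; group
        rintro (h | h | h)
        · exact hwt h.symm
        · exact hwt (mul_left_cancel (mul_right_cancel (h.symm.trans hfx.symm)))
        · have h' : x * w * x⁻¹ = t :=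
            mul_left_cancel (mul_right_cancel (h.symm.trans hfx.symm))
          exact hwt (mul_left_cancel (mul_right_cancel (h'.trans hfx.symm)))
      calc 4 = (insert t ({w, x * w * x⁻¹, x * (x * w * x⁻¹) * x⁻¹} : Set G)).ncard := by
            rw [Set.ncard_insert_of_notMem hnt (Set.toFinite _), triple w (hSU hwS) hwt]
        _ ≤ S.ncard := Set.ncard_le_ncard hsub (Set.toFinite _)
    have hall : S = U := by
      refine hSU.antisymm fun y hy => ?_
      by_contra hyS
      have hyt : y ≠ t := fun h => hyS (h ▸ htS)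
      have hUx : ∀ z, z ∈ U \ S → x * z * x⁻¹ ∈ U \ S := fun z ⟨⟨hz, hz1⟩, hzS⟩ =>
        ⟨⟨hxP _ hz, fun h => hz1 (conj_eq_one_iff.1 h)⟩, fun h => hzS (hSx' _ h)⟩
      have hsub : ({y, x * y * x⁻¹, x * (x * y * x⁻¹) * x⁻¹} : Set G) ⊆ U \ S := by
        rintro z (rfl | rfl | rfl)
        exacts [⟨hy, hyS⟩, hUx _ ⟨hy, hyS⟩, hUx _ (hUx _ ⟨hy, hyS⟩)]
      have h3 := Set.ncard_le_ncard hsub (Set.toFinite _)
      rw [triple y hy hyt, Set.ncard_sdiff hSU (Set.toFinite _), hU] at h3
      have h5 : S.ncard = 4 := by omega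
      exact hodd (by rw [h5]; norm_num)
    have hp : IsPGroup 2 (Subgroup.zpowers u) :=
      IsPGroup.of_card (n := 1) (by rw [Nat.card_zpowers, hu, pow_one])
    obtain ⟨Q, hQ⟩ := hp.exists_le_sylow
    obtain ⟨g, hg⟩ := MulAction.exists_smul_eq G Q P
    have huP : g * u * g⁻¹ ∈ P := by
      rw [← hg]
      exact ⟨u, hQ (Subgroup.mem_zpowers u), rfl⟩
    have huU : g * u * g⁻¹ ∈ U := ⟨huP, fun h => by
      rw [conj_eq_one_iff] at h; simp [h] at hu⟩
    rw [← hall] at huU
    obtain ⟨n, -, hn⟩ := huU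
    refine isConj_iff.2 ⟨g⁻¹ * n, ?_⟩
    calc g⁻¹ * n * t * (g⁻¹ * n)⁻¹ = g⁻¹ * (n * t * n⁻¹) * g := by group
      _ = u := by rw [hn]; group

end Three

/-- The case `q = 3` does not occur. -/
theorem three {G : Type u} [Group G] [Finite G] [IsSimpleGroup G]
    (hab : ∀ P : Sylow 2 G, ∀ a b : P, a * b = b * a)
    {F : Type v} [Field F] [Fintype F] (hq : Fintype.card F = 3)
    (t : G) (ht : orderOf t = 2)
    (hC : Nonempty (Subgroup.centralizer ({t} : Set G) ≃*
      Multiplicative (ZMod 2) × Matrix.ProjectiveSpecialLinearGroup (Fin 2) F)) : False := by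
  classical
  haveI : Fact (Nat.Prime 2) := ⟨Nat.prime_two⟩
  obtain ⟨e₀⟩ := hC
  obtain ⟨f⟩ := CfsgLib.ClassicalGroups.psl_two_three_alternating (K := F) hq
  let e : Subgroup.centralizer ({t} : Set G) ≃* MThree := e₀.trans ((MulEquiv.refl _).prodCongr f)
  obtain ⟨-, P, htP, -⟩ := twoCentral_of_abelian hab ht
  obtain ⟨hcard, -⟩ := sylow_eq e hab htP
  haveI := solvable_MThree
  have hsol : ∀ u : G, orderOf u = 2 →
      Group.IsSolvable (Subgroup.centralizer ({u} : Set G)) := by
    intro u hu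
    obtain ⟨g, hg⟩ := isConj_iff.1 (isConj_of_involution e hab ht hu)
    let φ : Subgroup.centralizer ({u} : Set G) →* MThree :=
      e.toMonoidHom.comp (((MulAut.conj g⁻¹).toMonoidHom.comp (Subgroup.subtype _)).codRestrict _
        fun y => Subgroup.mem_centralizer_singleton_iff.2 (by
          have hy : (y : G) * u = u * y := Subgroup.mem_centralizer_singleton_iff.1 y.2
          have htu : t = g⁻¹ * u * g := by rw [← hg]; group
          show g⁻¹ * (y : G) * g⁻¹⁻¹ * t = t * (g⁻¹ * (y : G) * g⁻¹⁻¹)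
          rw [htu]
          calc g⁻¹ * (y : G) * g⁻¹⁻¹ * (g⁻¹ * u * g) = g⁻¹ * ((y : G) * u) * g := by group
            _ = g⁻¹ * (u * y) * g := by rw [hy]
            _ = _ := by group))
    have hφ : Function.Injective φ := fun a b h => by
      have h' : MulAut.conj g⁻¹ (a : G) = MulAut.conj g⁻¹ (b : G) :=
        congrArg Subtype.val (e.injective h)
      exact Subtype.ext ((MulAut.conj g⁻¹).injective h')
    exact Group.isSolvable_of_isSolvable_injective hφ
  have hna : ¬ ∀ a b : G, a * b = b * a := by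
    intro hall
    have hmem : ∀ a b : MThree, a * b = b * a := fun a b => e.symm.injective (by
      rw [map_mul, map_mul]; exact Subtype.ext (hall _ _))
    exact cyc_dbl_ne (hmem cyc dbl)
  have hcore : Cfsg.oddCore G = ⊥ := CfsgLib.CoreKill.oddCore_eq_bot_of_simple ht
  rcases Cfsg.Agent.S3188.result P ⟨⟨fun a b => hab P a b⟩⟩ hsol with h | h
  · exact hna fun a b => IsSimpleGroup.comm_iff_isSolvable.2 h a b
  obtain ⟨K, _, _, hK, N, hN, ⟨iso⟩, -⟩ := h
  haveI := hN
  have hK4 : 4 ≤ Fintype.card K := by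
    rcases hK with ⟨-, h⟩ | ⟨n, hn, h⟩
    · omega
    · rw [h]; exact le_trans (by norm_num) (Nat.pow_le_pow_right two_pos hn)
  have hNne : N ≠ ⊥ := by
    rintro rfl
    have h1 : Nat.card (Matrix.ProjectiveSpecialLinearGroup (Fin 2) K) = 1 := by
      rw [← Nat.card_congr iso.toEquiv]; exact Subgroup.card_bot
    have h2 := CfsgLib.PSL2.card_psl (F := K)
    rw [h1, mul_one] at h2
    have h3 : Nat.gcd 2 (Fintype.card K - 1) ≤ 2 := Nat.gcd_le_left _ two_pos
    have h4 : 4 * 3 ≤ Fintype.card K * (Fintype.card K - 1) := Nat.mul_le_mul hK4 (by omega)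
    nlinarith
  haveI : IsSimpleGroup (G ⧸ Cfsg.oddCore G) :=
    ((QuotientGroup.quotientMulEquivOfEq hcore).trans
      QuotientGroup.quotientBot).isSimpleGroup_congr.2 inferInstance
  have htop : N = ⊤ := (IsSimpleGroup.eq_bot_or_eq_top_of_normal N hN).resolve_left hNne
  let Ψ : G ≃* Matrix.ProjectiveSpecialLinearGroup (Fin 2) K :=
    ((((QuotientGroup.quotientMulEquivOfEq hcore).trans QuotientGroup.quotientBot).symm.trans
      Subgroup.topEquiv.symm).trans (MulEquiv.subgroupCongr htop.symm)).trans iso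
  have hG : Nat.card G = Nat.card (Matrix.ProjectiveSpecialLinearGroup (Fin 2) K) :=
    Nat.card_congr Ψ.toEquiv
  have h8 : 8 ∣ Nat.card G := hcard ▸ Subgroup.card_subgroup_dvd_card _
  have h16 : ¬ 16 ∣ Nat.card G := by
    intro h
    have := P.pow_dvd_card_of_pow_dvd_card (n := 4) (by simpa using h)
    rw [hcard] at this
    norm_num at this
  have hpsl := CfsgLib.PSL2.card_psl (F := K)
  rw [← hG] at hpsl
  set q := Fintype.card K with hqK
  rcases hK with ⟨hmod, h5⟩ | ⟨n, hn, hqn⟩
  · rw [CfsgLib.PSL2.gcd_eq_two (show Odd q by rw [Nat.odd_iff]; omega)] at hpsl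
    obtain ⟨k, hk⟩ : ∃ k, q = 8 * k + 3 ∨ q = 8 * k + 5 := ⟨q / 8, by omega⟩
    obtain ⟨c, hc⟩ := h8
    rw [hc] at hpsl
    rcases hk with hk | hk <;> rw [hk] at hpsl
    · rw [show 8 * k + 3 - 1 = 2 * (4 * k + 1) by omega] at hpsl
      have : 16 * c = 8 * ((2 * k + 1) * ((8 * k + 3) * (4 * k + 1))) := by linarith
      have h2 : Odd ((2 * k + 1) * ((8 * k + 3) * (4 * k + 1))) := by simp [Nat.odd_mul, parity_simps]
      rw [Nat.odd_iff] at h2; omega
    · rw [show 8 * k + 5 - 1 = 4 * (2 * k + 1) by omega] at hpsl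
      have : 16 * c = 8 * ((4 * k + 3) * ((8 * k + 5) * (2 * k + 1))) := by linarith
      have h2 : Odd ((4 * k + 3) * ((8 * k + 5) * (2 * k + 1))) := by simp [Nat.odd_mul, parity_simps]
      rw [Nat.odd_iff] at h2; omega
  · have hn0 : n ≠ 0 := by omega
    haveI := CfsgLib.CITGraph.charP_two hqn
    have hc := CfsgLib.CITGraph.card_psl_two hn0 hqn
    rw [← hG] at hc
    have hn3 : n = 3 := by
      have hodd : Odd (2 ^ (2 * n) - 1) :=
        Nat.Even.sub_odd (Nat.one_le_two_pow) ((Nat.even_pow' (by omega)).2 even_two) odd_one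
      have h1 : 2 ^ 3 ∣ 2 ^ n := by
        rw [hc] at h8
        exact (Nat.Coprime.pow_left 3 ((Nat.prime_two.coprime_iff_not_dvd).2
          (fun h => (Nat.not_even_iff_odd.2 hodd) (even_iff_two_dvd.2 h)))).dvd_of_dvd_mul_right h8
      have h3 := (Nat.pow_dvd_pow_iff_le_right (by norm_num)).1 h1
      by_contra hne
      exact h16 (hc ▸ ((pow_dvd_pow 2 (show 4 ≤ n by omega)).mul_right _))
    subst hn3
    obtain ⟨-, -, -, hc3, -⟩ := model_facts
    have hord := orderOf_six
    have h6 : orderOf (Ψ ((e.symm (Multiplicative.ofAdd (1 : ZMod 2), cyc.2) : _) : G)) = 6 := by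
      rw [MulEquiv.orderOf_eq, Subgroup.orderOf_coe, MulEquiv.orderOf_eq, hord]
    have h := CfsgLib.PrimRecog.PSLSquare.orderOf_mem (p := 2)
      (Ψ ((e.symm (Multiplicative.ofAdd (1 : ZMod 2), cyc.2) : _) : G))
    rw [h6] at h
    simp only [CfsgLib.PrimRecog.PSLSquare.orders, Set.mem_ofPred_eq] at h
    have hq8 : Fintype.card K = 8 := hqn
    rw [CfsgLib.PSL2.gcd_eq_one (by rw [hq8]; decide), hq8] at h
    norm_num at h

end CfsgLib.JankoThompson
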